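import Cfsg.Agent.Lib.MonsterHeld52.Vectors
import Cfsg.Agent.Lib.MonsterHeld52.Data
import Cfsg.Agent.Lib.LeechMod2.Frame
import Cfsg.Agent.S5604

/-!
The centraliser of the permutation of order 7 in the lattice group acting on the fixed classes: it
keeps a three-dimensional subspace, acts on it as the full linear group, and the kernel is the group
of the permutation and the sign.

Owner: helper52.
-/

set_option autoImplicit false
set_option maxRecDepth 20000

namespace Cfsg.Agent.Lib.MonsterHeld52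

open Cfsg Cfsg.Agent.Lib.Leech Cfsg.Agent.Lib.Golay Cfsg.Agent.Lib.Co3Model
open Cfsg.Agent.Lib.Computation (getW mulP)
open Cfsg.Agent.Lib.M24Classes
open Cfsg.Agent.Lib.LeechMod2
open scoped Matrix

/-! ### lists of coordinates -/

/-- The coordinates of a fixed vector. -/
def lvP (P : Fin 6 → ℤ) : List ℤ := (List.range 24).map fun i => sv P (slot i)

theorem lv_val (P : Fin 6 → ℤ) : lv (val P) = lvP P := lv_eq_map fun i hi => by
  show sv P (slot (idx (pt i))) = _
  rw [idx_pt hi]

/-- The parameters of a list. -/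
def parL (L : List ℤ) : Fin 6 → ℤ :=
  par6 (ent L 0) (ent L 4) (ent L 6) (ent L 14) (ent L 19) (ent L 12)

theorem parL_lv (v : leechLattice) : parL (lv v) = parOf (vec v) := by
  simp only [parL, parOf, ent_lv v (show 0 < 24 by norm_num), ent_lv v (show 4 < 24 by norm_num),
    ent_lv v (show 6 < 24 by norm_num), ent_lv v (show 14 < 24 by norm_num),
    ent_lv v (show 19 < 24 by norm_num), ent_lv v (show 12 < 24 by norm_num)]

/-- The coordinates of an axis. -/
def axL (k : ℕ) : List ℤ := (List.range 24).map fun i => if i = k then 8 else 0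

theorem lv_eightE (q : GolayPt) : lv (eightE q) = axL (idx q) := lv_eq_map fun i hi => by
  show (Pi.single q 8 : GolayPt → ℤ) (pt i) = _
  rw [Pi.single_apply]
  refine if_congr ⟨fun e => ?_, fun e => ?_⟩ rfl rfl
  · rw [← e, idx_pt hi]
  · rw [e, pt_idx]

/-- The permutation as a primitive. -/
def opR : Op := .perm Data.r7 Data.r7b

/-- Its inverse as a primitive. -/
def opR' : Op := .perm Data.r7b Data.r7

theorem opR_ok : opR.ok = true ∧ opR'.ok = true := by decide +kernel

theorem elt_opR : opR.elt = π0 := by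
  simp only [opR, Op.elt, dif_pos (show (Op.perm Data.r7 Data.r7b).ok = true from opR_ok.1)]
  rfl

theorem elt_opR' : opR'.elt = π0⁻¹ := by
  simp only [opR', Op.elt, dif_pos (show (Op.perm Data.r7b Data.r7).ok = true from opR_ok.2)]
  rw [π0, ← map_inv]
  refine congrArg permHom (Subtype.ext ?_)
  have h := opR_ok.1
  simp only [opR, Op.ok, Bool.and_eq_true, Nat.beq_eq] at h
  show gperm Data.r7b = (gperm Data.r7)⁻¹
  refine eq_inv_of_mul_eq_one_right ?_
  rw [← gperm_mul (okCode_of_inM24 h.1.1) h.1.2, h.2, gperm_oneCode]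

theorem wordElt_append (v w : List Op) : wordElt (v ++ w) = wordElt v * wordElt w := by
  simp [wordElt]

theorem wordElt_cons (o : Op) (w : List Op) : wordElt (o :: w) = o.elt * wordElt w := by
  simp [wordElt]

/-- The word conjugates the permutation to the primitive `o`. -/
def normW (o : Op) (w : List Op) : Bool :=
  w.all Op.ok && o.ok &&
    (List.range 24).all fun k => decide (appWord (w ++ [opR]) (axL k) = appWord (o :: w) (axL k))

theorem of_normW {o : Op} {w : List Op} (h : normW o w = true) :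
    wordElt w * π0 = o.elt * wordElt w := by
  simp only [normW, Bool.and_eq_true, List.all_eq_true, List.mem_range, decide_eq_true_eq] at h
  obtain ⟨⟨hw, ho⟩, hax⟩ := h
  refine co0_ext fun q => lv_injective ?_
  have h1 : (w ++ [opR]).all Op.ok = true := by
    simp only [List.all_append, List.all_cons, List.all_nil, Bool.and_true, Bool.and_eq_true,
      List.all_eq_true]
    exact ⟨hw, opR_ok.1⟩
  have h2 : (o :: w).all Op.ok = true := by
    simp only [List.all_cons, Bool.and_eq_true, List.all_eq_true]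
    exact ⟨ho, hw⟩
  have e1 : wordElt (w ++ [opR]) = wordElt w * π0 := by
    rw [wordElt_append, show wordElt [opR] = opR.elt from by simp [wordElt], elt_opR]
  have e2 := lv_word h1 (eightE q)
  have e3 := lv_word h2 (eightE q)
  rw [e1] at e2
  rw [wordElt_cons] at e3
  rw [e2, e3, lv_eightE]
  exact hax _ (idx_lt q)

/-! ### the action on classes -/

/-- The centraliser of the permutation. -/
noncomputable def CC : Subgroup Co0 := Subgroup.centralizer {π0}

theorem mem_CC {g : Co0} : g ∈ CC ↔ g * π0 = π0 * g := Subgroup.mem_centralizer_singleton_iff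

/-- Lifting of residues. -/
def lift (x : V6) : Fin 6 → ℤ := fun j => ((x j).val : ℤ)

theorem red_lift : ∀ x : V6, red (lift x) = x := by decide +kernel

/-- The action on classes. -/
noncomputable def actV (g : Co0) (x : V6) : V6 := red (parOf (vec (g • val (lift x))))

theorem fixed_smul {g : Co0} (hg : g ∈ CC) (P : Fin 6 → ℤ) :
    π0 • (g • val P) = g • val P := by
  rw [← mul_smul, ← mem_CC.mp hg, mul_smul, val_fixed]

theorem exists_smul_val {g : Co0} (hg : g ∈ CC) (P : Fin 6 → ℤ) :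
    ∃ R, g • val P = val R ∧ red R = actV g (red P) := by
  obtain ⟨R, hR⟩ := exists_val (fixed_smul hg P)
  obtain ⟨S, hS⟩ := exists_val (fixed_smul hg (lift (red P)))
  refine ⟨R, hR, ?_⟩
  show red R = red (parOf (vec (g • val (lift (red P)))))
  rw [hS, show parOf (vec (val S)) = S from parOf_valF S, ← eqv_val_iff, ← hR, ← hS]
  exact (eqv_val_iff.mpr (red_lift _).symm).smul g

theorem actV_eq {g : Co0} (hg : g ∈ CC) {P R : Fin 6 → ℤ} (h : g • val P = val R) :
    actV g (red P) = red R := by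
  obtain ⟨R', h1, h2⟩ := exists_smul_val hg P
  rw [← h2, val_injective (h1.symm.trans h)]

theorem actV_add {g : Co0} (hg : g ∈ CC) (x y : V6) : actV g (x + y) = actV g x + actV g y := by
  obtain ⟨R, hR, hR'⟩ := exists_smul_val hg (lift x)
  obtain ⟨S, hS, hS'⟩ := exists_smul_val hg (lift y)
  rw [red_lift] at hR' hS'
  have := actV_eq hg (P := lift x + lift y) (R := R + S) (by rw [val_add, smul_add', hR, hS, val_add])
  rwa [red_add, red_lift, red_lift, red_add, hR', hS'] at this

theorem actV_mul {g h : Co0} (hg : g ∈ CC) (hh : h ∈ CC) (x : V6) :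
    actV (g * h) x = actV g (actV h x) := by
  obtain ⟨R, hR, hR'⟩ := exists_smul_val hh (lift x)
  obtain ⟨S, hS, hS'⟩ := exists_smul_val hg R
  rw [red_lift] at hR'
  have := actV_eq (mul_mem hg hh) (P := lift x) (R := S) (by rw [mul_smul, hR, hS])
  rwa [red_lift, hS', hR'] at this

theorem actV_one (x : V6) : actV 1 x = x := by
  have := actV_eq (g := 1) (one_mem CC) (P := lift x) (R := lift x) (one_smul _ _)
  rwa [red_lift] at this

/-- The action computed on lists. -/
def actW (w : List Op) (x : V6) : V6 := red (parL (appWord w (lvP (lift x))))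

theorem actV_word {w : List Op} (h : w.all Op.ok = true) (x : V6) :
    actV (wordElt w) x = actW w x := by
  rw [actV, actW, ← parL_lv, lv_word h, lv_val]

/-- The word centralises the permutation. -/
def centW (w : List Op) : Bool := normW opR w

theorem mem_of_centW {w : List Op} (h : centW w = true) : wordElt w ∈ CC ∧ w.all Op.ok = true := by
  refine ⟨mem_CC.mpr (by rw [of_normW h, elt_opR]), ?_⟩
  simp only [centW, normW, Bool.and_eq_true] at h
  exact h.1.1

/-! ### the fourteen classes -/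

/-- The class with a given code. -/
def vecC (c : ℕ) : V6 := fun j => bif c.testBit j then 1 else 0

/-- The codes of the nonzero classes of the first subspace. -/
def w1L : List ℕ := [10, 22, 28, 32, 42, 54, 60]

/-- The codes of the nonzero classes of the second subspace. -/
def w2L : List ℕ := [6, 27, 29, 34, 36, 57, 63]

/-- The short parameter vector of a code. -/
def minP (c : ℕ) : Fin 6 → ℤ := fun j => (minPL.getD c []).getD j.val 0

/-- The squared length on parameters. -/
def normP (P : Fin 6 → ℤ) : ℤ :=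
  7 * sv P 0 ^ 2 + 7 * sv P 1 ^ 2 + 7 * sv P 2 ^ 2 + sv P 3 ^ 2 + sv P 4 ^ 2 + sv P 5 ^ 2

theorem sqNorm_val (P : Fin 6 → ℤ) : sqNorm (vec (val P)) = normP P :=
  sum_slots fun k => sv P k ^ 2

theorem minP_ok : ∀ c < 64, red (minP c) = vecC c ∧
    (normP (minP c) = 0 ∨ normP (minP c) = 32 ∨ normP (minP c) = 48 ∨ normP (minP c) = 64) ∧
    (normP (minP c) = 64 ↔ (c ∈ w1L ∨ c ∈ w2L)) := by
  decide +kernel

theorem exists_code (x : V6) : ∃ c < 64, x = vecC c := by
  revert x
  decide +kernel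

/-- The class is one of the fourteen. -/
def isW14 (x : V6) : Prop := ∃ c, (c ∈ w1L ∨ c ∈ w2L) ∧ x = vecC c

/-- The fourteen classes are those containing a vector of squared length 64. -/
theorem isW14_iff (P : Fin 6 → ℤ) :
    isW14 (red P) ↔ ∃ v : leechLattice, sqNorm (vec v) = 64 ∧ Eqv v (val P) := by
  constructor
  · rintro ⟨c, hc, he⟩
    have hlt : c < 64 := by
      rcases hc with hc | hc <;> simp [w1L, w2L] at hc <;> omega
    obtain ⟨h1, -, h3⟩ := minP_ok c hlt
    exact ⟨val (minP c), (sqNorm_val _).trans (h3.mpr hc), eqv_val_iff.mpr (by rw [h1, he])⟩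
  · rintro ⟨v, hv, hve⟩
    obtain ⟨c, hc, he⟩ := exists_code (red P)
    obtain ⟨h1, h2, h3⟩ := minP_ok c hc
    refine ⟨c, h3.mp ?_, he⟩
    have hvc : Eqv v (val (minP c)) := hve.trans (eqv_val_iff.mpr (by rw [h1, he]))
    by_contra hn
    have hsm : sqNorm (vec v) + sqNorm (vec (val (minP c))) < 128 := by
      rw [sqNorm_val, hv]; omega
    have := sqNorm_val (minP c)
    rcases eq_or_neg_of_small hvc hsm with e | e
    · rw [e] at hv; omega
    · rw [e] at hv
      simp only [vec, AddSubgroup.coe_neg, sqNorm_neg] at hv this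
      omega

theorem actV_isW14 {g : Co0} (hg : g ∈ CC) {x : V6} (h : isW14 x) : isW14 (actV g x) := by
  obtain ⟨R, hR, hR'⟩ := exists_smul_val hg (lift x)
  rw [red_lift] at hR'
  rw [← hR', isW14_iff]
  rw [← red_lift x, isW14_iff] at h
  obtain ⟨v, hv, hve⟩ := h
  exact ⟨g • v, by rw [norm_smul', hv], hR ▸ hve.smul g⟩

/-! ### the subspace -/

/-- The embedding of the subspace. -/
def emb1 (x : Fin 3 → ZMod 2) : V6 := ![0, x 1 + x 2, x 2, x 1, x 2, x 0]

/-- Its left inverse. -/
def prj (y : V6) : Fin 3 → ZMod 2 := ![y 5, y 3, y 2]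

theorem prj_emb : ∀ x, prj (emb1 x) = x := by decide +kernel

theorem emb1_add : ∀ x y, emb1 (x + y) = emb1 x + emb1 y := by decide +kernel

theorem prj_add (x y : V6) : prj (x + y) = prj x + prj y := by
  funext i
  fin_cases i <;> rfl

theorem emb1_cases : ∀ x, x = 0 ∨ ∃ c ∈ w1L, emb1 x = vecC c := by decide +kernel

theorem w1_mem : ∀ c ∈ w1L, ∃ x, emb1 x = vecC c := by decide +kernel

theorem emb1_zero : emb1 0 = 0 := by decide +kernel

theorem words_ok : (centW wG && wT.all centW && wU.all centW && wB.all centW &&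
    normW opR' wD) = true := by
  decide +kernel

theorem wT_spec : ∀ c ∈ w1L, ∃ w ∈ wT, actW w (vecC 32) = vecC c := by decide +kernel

theorem wB_spec : ∀ c ∈ w2L, ∃ w ∈ wB, actW w (vecC c) = vecC 6 := by decide +kernel

theorem wD_spec : red (parL (appWord wD (lvP (minP 6)))) = vecC 32 ∧
    π0 • val (minP 6) = val (minP 6) := by
  refine ⟨?_, val_fixed _⟩
  decide +kernel

theorem minP32 : minP 32 = ![0, 0, 0, 0, 0, -1] := by decide +kernel

theorem val32 : val (minP 32) = -eightE (pt 12) := by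
  apply Subtype.ext
  funext q
  show sv (minP 32) (slot (idx q)) = -((Pi.single (pt 12) 8 : GolayPt → ℤ) q)
  revert q
  decide +kernel

/-- An element fixing the basic class preserves the axes. -/
theorem cross_of_fix {g : Co0} (h : Eqv (g • val (minP 32)) (val (minP 32))) : g ∈ crossGroup := by
  rw [val32, smul_neg'] at h
  obtain ⟨t, ht⟩ := h
  obtain ⟨j, hj⟩ := eight_congr (i := pt 12) (w := g • eightE (pt 12)) (z := t)
    (by rw [norm_smul', sqNorm_eightE]) (by rw [two_zsmul, ← ht]; abel)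
  exact axis_of_one (i := pt 12) hj

/-- The permutation part normalises in the same way. -/
theorem perm_part {d : Co0} (hd : d ∈ Frame.diag) {τ : M24} {j : ℕ}
    (h : d * permHom τ * π0 = π0 ^ j * (d * permHom τ)) :
    τ * σ0 = σ0 ^ j * τ ∧ (j = 1 → d * π0 = π0 * d) := by
  have e0 : permHom (τ * σ0 * τ⁻¹ * (σ0 ^ j)⁻¹) = d⁻¹ * (π0 ^ j * d * (π0 ^ j)⁻¹) := by
    rw [map_mul, map_mul, map_mul, map_inv, map_inv, map_pow, ← π0]
    calc permHom τ * π0 * (permHom τ)⁻¹ * (π0 ^ j)⁻¹
        = d⁻¹ * (d * permHom τ * π0) * (permHom τ)⁻¹ * (π0 ^ j)⁻¹ := by group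
      _ = d⁻¹ * (π0 ^ j * (d * permHom τ)) * (permHom τ)⁻¹ * (π0 ^ j)⁻¹ := by rw [h]
      _ = _ := by group
  have hmem : permHom (τ * σ0 * τ⁻¹ * (σ0 ^ j)⁻¹) ∈ Frame.diag := by
    rw [e0]
    exact mul_mem (inv_mem hd) (Frame.cross_conj_diag (pow_mem (Frame.permHom_mem_cross σ0) j) hd)
  have h1 := Frame.eq_one_of_permHom_mem_diag hmem
  have hτ : τ * σ0 = σ0 ^ j * τ := by
    rw [mul_inv_eq_one, mul_inv_eq_iff_eq_mul] at h1
    exact h1
  refine ⟨hτ, fun hj => ?_⟩
  subst hj
  rw [h1, map_one, pow_one] at e0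
  have e1 : π0 * d * π0⁻¹ = d := by
    calc π0 * d * π0⁻¹ = d * (d⁻¹ * (π0 * d * π0⁻¹)) := by group
      _ = d := by rw [← e0, mul_one]
  exact (mul_inv_eq_iff_eq_mul.mp e1).symm

/-- The permutation is not inverted inside the code group. -/
theorem inv_ok : (Data.orb7.all fun a => Data.stabN.all fun b =>
    inM24 a && inM24 b && okCode (S5604.powCode 6) &&
      !Coset.eqComp (mulP 24 5 a b) Data.r7 (S5604.powCode 6) (mulP 24 5 a b)) = true := by
  decide +kernel

theorem not_inverted {τ : M24} (h : τ * σ0 = σ0 ^ 6 * τ) : False := by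
  have h' : (τ : Equiv.Perm GolayPt) * gperm Data.r7 = gperm Data.r7 ^ 6 * (τ : Equiv.Perm GolayPt) :=
    congrArg Subtype.val h
  have hK : (τ : Equiv.Perm GolayPt) ∈ S5604.K :=
    S5604.mem_K.mpr ⟨τ.2, 6, by simp [S5604.exps], h'⟩
  obtain ⟨a, ha, b, hb, he⟩ := S5604.product_K hK
  have hc := inv_ok
  simp only [List.all_eq_true, Bool.and_eq_true, Bool.not_eq_true'] at hc
  obtain ⟨⟨⟨oa, ob⟩, hp⟩, hn⟩ := hc a ha b hb
  have oab := okCode_mulP (okCode_of_inM24 oa) (okCode_of_inM24 ob)
  have hg : gperm (mulP 24 5 a b) = (τ : Equiv.Perm GolayPt) := by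
    rw [gperm_mul (okCode_of_inM24 oa) (okCode_of_inM24 ob), he]
  have ht : Coset.eqComp (mulP 24 5 a b) Data.r7 (S5604.powCode 6) (mulP 24 5 a b) = true := by
    rw [Coset.eqComp_iff oab (okCode_of_inM24 inM24_r7) hp oab, (S5604.gperm_powCode 6).2, hg]
    exact h'
  rw [hn] at ht
  exact Bool.noConfusion ht

theorem σ0_pow7 : σ0 ^ 7 = 1 := by
  apply Subtype.ext
  show gperm Data.r7 ^ 7 = 1
  rw [← S5604.orderR, pow_orderOf_eq_one]

/-- The subspace is invariant. -/
theorem inv_W1 {g : Co0} (hg : g ∈ CC) (x : Fin 3 → ZMod 2) :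
    ∃ y, actV g (emb1 x) = emb1 y := by
  rcases emb1_cases x with rfl | ⟨c, hc, he⟩
  · refine ⟨0, ?_⟩
    rw [emb1_zero]
    have := actV_add hg 0 0
    rw [add_zero] at this
    exact left_eq_add.mp this
  obtain ⟨c', hc', he'⟩ := actV_isW14 hg (x := emb1 x) ⟨c, Or.inl hc, he⟩
  rcases hc' with hc' | hc'
  · obtain ⟨y, hy⟩ := w1_mem c' hc'
    exact ⟨y, by rw [he', hy]⟩
  exfalso
  have hok := words_ok
  simp only [Bool.and_eq_true, List.all_eq_true] at hok
  obtain ⟨⟨⟨⟨-, hT⟩, -⟩, hB⟩, hD⟩ := hok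
  obtain ⟨w1, hw1, e1⟩ := wT_spec c hc
  obtain ⟨w2, hw2, e2⟩ := wB_spec c' hc'
  obtain ⟨g1m, g1ok⟩ := mem_of_centW (hT w1 hw1)
  obtain ⟨g2m, g2ok⟩ := mem_of_centW (hB w2 hw2)
  rw [← actV_word g1ok, ← he] at e1
  rw [← actV_word g2ok, ← he', ← e1] at e2
  rw [← actV_mul hg g1m, ← actV_mul g2m (mul_mem hg g1m)] at e2
  obtain ⟨k, hk⟩ : ∃ k, k = wordElt w2 * (g * wordElt w1) := ⟨_, rfl⟩
  have hkm : k ∈ CC := hk ▸ mul_mem g2m (mul_mem hg g1m)
  obtain ⟨h32, -⟩ := minP_ok 32 (by norm_num)
  obtain ⟨h6, -⟩ := minP_ok 6 (by norm_num)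
  obtain ⟨R, hR, hR'⟩ := exists_smul_val hkm (minP 32)
  rw [h32, hk, e2, ← h6] at hR'
  -- the inverting element
  have hdn : wordElt wD * π0 = π0⁻¹ * wordElt wD := by rw [of_normW hD, elt_opR']
  have hdok : wD.all Op.ok = true := by
    simp only [normW, Bool.and_eq_true] at hD
    exact hD.1.1
  obtain ⟨δ, hδ⟩ : ∃ δ, δ = wordElt wD := ⟨_, rfl⟩
  rw [← hδ] at hdn
  have hδfix : π0 • (δ • val (minP 6)) = δ • val (minP 6) := by
    have h1 : π0 * δ = δ * π0⁻¹ := by
      calc π0 * δ = π0 * (δ * π0) * π0⁻¹ := by group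
        _ = π0 * (π0⁻¹ * δ) * π0⁻¹ := by rw [hdn]
        _ = _ := by group
    rw [← mul_smul, h1, mul_smul, inv_smul_eq_iff.mpr (val_fixed _).symm]
  obtain ⟨S, hS⟩ := exists_val hδfix
  have hS' : red S = red (minP 32) := by
    rw [h32, ← parOf_valF S, show valF S = vec (δ • val (minP 6)) by rw [hS]; rfl, ← parL_lv, hδ,
      lv_word hdok, lv_val]
    exact wD_spec.1
  have hfix : Eqv ((δ * k) • val (minP 32)) (val (minP 32)) := by
    rw [mul_smul, hR]
    exact ((eqv_val_iff.mpr hR').smul δ).trans (hS ▸ eqv_val_iff.mpr hS')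
  have hcross := cross_of_fix hfix
  obtain ⟨d, hd, τ, hτ⟩ := Frame.exists_split hcross
  have h7 : π0⁻¹ = π0 ^ 6 := inv_eq_of_mul_eq_one_right (by
    rw [← pow_succ', π0, ← map_pow, σ0_pow7, map_one])
  refine not_inverted (perm_part (j := 6) (τ := τ) hd ?_).1
  rw [← hτ, mul_assoc, mem_CC.mp hkm, ← mul_assoc, hdn, mul_assoc, h7]

end Cfsg.Agent.Lib.MonsterHeld52
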