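import Cfsg.Agent.Lib.MonsterHeld52.Inverting

/-!
Monster type: the automiser of the Sylow 7-subgroup has order 6 and an inverting involution induces
an outer automorphism of the layer of the centraliser.

Owner: helper52.
-/

set_option autoImplicit false
set_option maxRecDepth 20000

namespace Cfsg.Agent.Lib.MonsterHeld52

open Cfsg Cfsg.Agent.Lib.Leech
open Cfsg.Agent.Lib.LeechMod2

local notation "Cen[" z "]" => Subgroup.centralizer ({z} : Set _)

theorem relIndex_six {G : Type*} [Group G] [Finite G] {B : Subgroup G} {b n t : G}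
    (hB : B = Subgroup.zpowers b) (hb : orderOf b = 7) (hn : n * b * n⁻¹ = b ^ 2)
    (ht : t * b * t⁻¹ = b⁻¹) :
    (Subgroup.centralizer (B : Set G)).relIndex (Subgroup.normalizer (B : Set G)) = 6 := by
  haveI : Fact (Nat.Prime 7) := ⟨by norm_num⟩
  have hbB : b ∈ B := hB ▸ Subgroup.mem_zpowers b
  have hcard : Nat.card B = 7 := by rw [hB, Nat.card_zpowers, hb]
  have hn' : t * b * t⁻¹ = b ^ 6 := by
    rw [ht]
    refine inv_eq_of_mul_eq_one_right ?_
    rw [← pow_succ', show 6 + 1 = orderOf b by rw [hb]]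
    exact pow_orderOf_eq_one b
  have hmem : ∀ (g : G) (j : ℕ), g * b * g⁻¹ = b ^ j →
      g ∈ Subgroup.normalizer (B : Set G) := by
    intro g j hg
    refine Subgroup.mem_normalizer_fintype ?_
    intro x hx
    rw [SetLike.mem_coe, hB, Subgroup.mem_zpowers_iff] at hx
    obtain ⟨i, rfl⟩ := hx
    show g * b ^ i * g⁻¹ ∈ B
    rw [← conj_zpow, hg]
    exact zpow_mem (pow_mem hbB j) i
  have hcomp : ∀ (g h : G) (i j : ℕ), g * b * g⁻¹ = b ^ i → h * b * h⁻¹ = b ^ j →
      g * h * b * (g * h)⁻¹ = b ^ (i * j) := by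
    intro g h i j hg hh
    calc g * h * b * (g * h)⁻¹ = g * (h * b * h⁻¹) * g⁻¹ := by group
      _ = _ := by rw [hh, ← conj_pow, hg, pow_mul]
  have hall : ∀ j : ℕ, 0 < j → j < 7 → ∃ g : G, g * b * g⁻¹ = b ^ j := by
    have hred : ∀ k : ℕ, b ^ k = b ^ (k % 7) := fun k => by rw [← hb, pow_mod_orderOf]
    intro j h0 h7
    interval_cases j
    · exact ⟨1, by simp⟩
    · exact ⟨n, hn⟩
    · exact ⟨t * (n * n), by rw [hcomp _ _ _ _ hn' (hcomp _ _ _ _ hn hn), hred (6 * (2 * 2))]⟩
    · exact ⟨n * n, by rw [hcomp _ _ _ _ hn hn]⟩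
    · exact ⟨t * n, by rw [hcomp _ _ _ _ hn' hn, hred (6 * 2)]⟩
    · exact ⟨t, hn'⟩
  obtain ⟨φ, hφ⟩ : ∃ φ, φ = B.normalizerMonoidHom := ⟨_, rfl⟩
  rw [Subgroup.relIndex, ← B.normalizerMonoidHom_ker, ← hφ, Subgroup.index_ker]
  have hval : ∀ g, ((φ g ⟨b, hbB⟩ : B) : G) = (g : G) * b * (g : G)⁻¹ := fun g => by rw [hφ]; rfl
  refine le_antisymm ?_ ?_
  · classical
    have := Fintype.ofFinite B
    have hinj : Function.Injective fun σ : φ.range => (σ.1 ⟨b, hbB⟩ : B) := by
      intro σ τ h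
      refine Subtype.ext (MulEquiv.ext fun x => ?_)
      have hx : (x : G) ∈ Subgroup.zpowers b := hB ▸ x.2
      obtain ⟨i, hi⟩ := Subgroup.mem_zpowers_iff.mp hx
      rw [show x = (⟨b, hbB⟩ : B) ^ i from Subtype.ext hi.symm, map_zpow, map_zpow]
      exact congrArg (· ^ i) h
    have hne : ∀ σ : φ.range, (σ.1 ⟨b, hbB⟩ : B) ≠ 1 := fun σ h => by
      have h1 : b = 1 := congrArg Subtype.val ((σ.1.map_eq_one_iff).mp h)
      rw [h1, orderOf_one] at hb
      norm_num at hb
    have h := Nat.card_le_card_of_injective (β := {x : B // x ≠ 1})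
      (fun σ : φ.range => ⟨_, hne σ⟩) fun σ τ e => hinj (congrArg Subtype.val e)
    refine h.trans (le_of_eq ?_)
    rw [Nat.card_eq_fintype_card, Fintype.card_subtype_compl, Fintype.card_subtype_eq,
      ← Nat.card_eq_fintype_card, hcard]
  · choose f hf using hall
    let F : Fin 6 → φ.range := fun i =>
      ⟨φ ⟨f (i.val + 1) (by omega) (by omega), hmem _ _ (hf _ _ _)⟩, ⟨_, rfl⟩⟩
    have hF : Function.Injective F := by
      intro i j h
      have h' : b ^ (i.val + 1) = b ^ (j.val + 1) := by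
        have e := congrArg (fun σ : φ.range => ((σ.1 ⟨b, hbB⟩ : B) : G)) h
        simp only [F, hval, hf] at e
        exact e
      have := pow_injOn_Iio_orderOf (G := G) (x := b) (show i.val + 1 < orderOf b by omega)
        (show j.val + 1 < orderOf b by omega) h'
      exact Fin.ext (by omega)
    have h := Nat.card_le_card_of_injective F hF
    rwa [Nat.card_fin] at h

variable {G : Type*} [Group G] [Finite G] {z : G} {Q : Subgroup (Subgroup.centralizer ({z} : Set G))}
  [Q.Normal]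

/-- The automiser and the inverting involution. -/
theorem automiser_of_monster (hM : IsOfMonsterType z Q) (s : G)
    (hsQ : ∃ hsc : s ∈ Cen[z], (⟨s, hsc⟩ : Cen[z]) ∈ Q) (hs : IsConj z s) (hs1 : s ≠ z)
    (B : Subgroup G) (hB : B ≤ Subgroup.centralizer ({z, s} : Set G))
    (hBp : Nat.card B = 7 ^ (Nat.card ↥(Subgroup.centralizer ({z, s} : Set G))).factorization 7) :
    (Subgroup.centralizer (B : Set G)).relIndex (Subgroup.normalizer (B : Set G)) = 6 ∧
    ∃ t : G, orderOf t = 2 ∧ (∀ b ∈ B, t * b * t⁻¹ = b⁻¹) ∧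
      (∀ x ∈ (layer ↥(Subgroup.centralizer (B : Set G))).map
          (Subgroup.centralizer (B : Set G)).subtype,
        t * x * t⁻¹ ∈ (layer ↥(Subgroup.centralizer (B : Set G))).map
          (Subgroup.centralizer (B : Set G)).subtype) ∧
      ¬ ∃ l ∈ (layer ↥(Subgroup.centralizer (B : Set G))).map
          (Subgroup.centralizer (B : Set G)).subtype,
        ∀ x ∈ (layer ↥(Subgroup.centralizer (B : Set G))).map
          (Subgroup.centralizer (B : Set G)).subtype, t * x * t⁻¹ = l * x * l⁻¹ := by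
  obtain ⟨hS, e, ψ, hψ⟩ := hM
  obtain ⟨hsc, hsQ⟩ := hsQ
  let q : Q := ⟨⟨s, hsc⟩, hsQ⟩
  obtain ⟨v, hv, hvq⟩ := (MonsterCore.conj_iff hS hψ q).mp ⟨hs, hs1⟩
  obtain ⟨e', ψ', hψ', hs'⟩ := MonsterCross.exists_standard hψ hv
  obtain ⟨e'', ψ'', b, X, hBb⟩ := exists_ctx hS hψ' (q := q) (hs'.trans hvq) hB hBp
  haveI : (B.subgroupOf (Subgroup.centralizer (B : Set G))).Normal := by
    refine ⟨fun x hx g => ?_⟩
    have h : (x : G) * (g : G) = (g : G) * (x : G) := Subgroup.mem_centralizer_iff.mp g.2 _ hx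
    rw [Subgroup.mem_subgroupOf, Subgroup.coe_mul, Subgroup.coe_mul, Subgroup.coe_inv, ← h,
      mul_inv_cancel_right]
    exact hx
  obtain ⟨n, hn⟩ := X.exists_square
  obtain ⟨t, ht2, htb, Dt, hDt, hDtβ⟩ := X.exists_invol_inverting
  have hb7 : orderOf (b : G) = 7 := by rw [Subgroup.orderOf_coe, X.orderOf_b]
  have htb' : (t : G) * (b : G) * (t : G)⁻¹ = (b : G)⁻¹ := congrArg Subtype.val htb
  have hn' : (n : G) * (b : G) * (n : G)⁻¹ = (b : G) ^ 2 := by
    have h := congrArg Subtype.val hn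
    simpa using h
  refine ⟨relIndex_six hBb hb7 hn' htb', (t : G), ?_, ?_, ?_, ?_⟩
  · refine orderOf_eq_prime (by rw [pow_two]; exact congrArg Subtype.val ht2) fun h => ?_
    have h1 : (b : G) = (b : G)⁻¹ := by
      rw [h, one_mul, inv_one, mul_one] at htb'
      exact htb'
    have h2 : orderOf (b : G) ∣ 2 := orderOf_dvd_of_pow_eq_one (by
      rw [pow_two]; nth_rewrite 2 [h1]; exact mul_inv_cancel _)
    rw [hb7] at h2
    norm_num at h2
  · intro x hx
    rw [hBb, Subgroup.mem_zpowers_iff] at hx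
    obtain ⟨i, rfl⟩ := hx
    rw [← conj_zpow, htb', inv_zpow]
  · intro x hx
    have hnorm : ∀ y ∈ Subgroup.centralizer (B : Set G),
        (t : G) * y * (t : G)⁻¹ ∈ Subgroup.centralizer (B : Set G) := fun y hy => by
      rw [Ctx.mem_CB hBb] at hy ⊢
      have h := hy.map (MulAut.conj (t : G)).toMonoidHom
      simp only [MulEquiv.coe_toMonoidHom, MulAut.conj_apply, htb'] at h
      simpa using h.inv_right
    have ht' : (t : G)⁻¹ = (t : G) := inv_eq_of_mul_eq_one_right (congrArg Subtype.val ht2)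
    let α : Subgroup.centralizer (B : Set G) ≃* Subgroup.centralizer (B : Set G) :=
      { toFun := fun y => ⟨_, hnorm y y.2⟩
        invFun := fun y => ⟨_, hnorm y y.2⟩
        left_inv := fun y => Subtype.ext (by
          show (t : G) * ((t : G) * (y : G) * (t : G)⁻¹) * (t : G)⁻¹ = _
          rw [show (t : G) * ((t : G) * (y : G) * (t : G)⁻¹) * (t : G)⁻¹ =
            ((t : G) * (t : G)) * (y : G) * ((t : G) * (t : G))⁻¹ by group,
            show (t : G) * (t : G) = 1 from congrArg Subtype.val ht2]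
          simp)
        right_inv := fun y => Subtype.ext (by
          show (t : G) * ((t : G) * (y : G) * (t : G)⁻¹) * (t : G)⁻¹ = _
          rw [show (t : G) * ((t : G) * (y : G) * (t : G)⁻¹) * (t : G)⁻¹ =
            ((t : G) * (t : G)) * (y : G) * ((t : G) * (t : G))⁻¹ by group,
            show (t : G) * (t : G) = 1 from congrArg Subtype.val ht2]
          simp)
        map_mul' := fun y w => Subtype.ext (by
          show (t : G) * ((y : G) * (w : G)) * (t : G)⁻¹ =
            (t : G) * (y : G) * (t : G)⁻¹ * ((t : G) * (w : G) * (t : G)⁻¹)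
          group) }
    obtain ⟨y, hy, rfl⟩ := hx
    refine ⟨α y, ?_, rfl⟩
    rw [← Components.Layer.map_layer α]
    exact ⟨y, hy, rfl⟩
  · rintro ⟨l, hl, hl'⟩
    exact X.not_inner hBb htb hDt hDtβ (Subgroup.map_subtype_le _ hl) hl'

end Cfsg.Agent.Lib.MonsterHeld52
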