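import Cfsg.Agent.Lib.MonsterHeld52.Main
import Cfsg.Agent.Lib.Components.Basic
import Cfsg.Agent.Lib.FStarTools.Basic

/-!
The quotient of the centraliser of the element of order 7 has no nontrivial nilpotent normal
subgroup, so the Fitting subgroup of that centraliser is the cyclic group of the element and an
automorphism centralising the layer moves elements only inside that cyclic group.

Owner: helper52.
-/

set_option autoImplicit false
set_option maxRecDepth 20000

namespace Cfsg.Agent.Lib.MonsterHeld52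

open Cfsg Cfsg.Agent.Lib.Leech
open Cfsg.Agent.Lib.LeechMod2

local notation "Cen[" z "]" => Subgroup.centralizer ({z} : Set _)

variable {G : Type*} [Group G] [Finite G] {z : G} {Q : Subgroup (Subgroup.centralizer ({z} : Set G))}
  [Q.Normal] {e : Cen[z] ⧸ Q ≃* Spor.Co1} {ψ : leechLattice → Q ⧸ Subgroup.center Q}
  {b : Subgroup.centralizer ({z} : Set G)} {B : Subgroup G}

theorem w14_span : ∀ c < 64, c = 0 ∨
    ∃ a ∈ w1L ++ w2L, c = a ∨ ∃ a' ∈ w1L ++ w2L, c = a ^^^ a' := by
  decide +kernel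

theorem vecC_xor' : ∀ a ∈ w1L ++ w2L, ∀ a' ∈ w1L ++ w2L,
    vecC (a ^^^ a') = vecC a + vecC a' := by
  decide +kernel

theorem vecC_zero' : vecC 0 = 0 := by decide +kernel

theorem vecC32_mem : isW14 (vecC 32) := ⟨32, Or.inl (by decide), rfl⟩

namespace Ctx

variable (X : Ctx z Q e ψ b) (hB : B = Subgroup.zpowers (b : G))

theorem mem_of_w14 {S : Subgroup X.HH} (hz : X.zh ∈ S)
    (hS : ∀ q ∈ X.Q0, isW14 (X.coord q) → q ∈ S) {q : X.HH} (hq : q ∈ X.Q0) : q ∈ S := by
  obtain ⟨c, hc, hce⟩ := exists_code (X.coord q)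
  have hW : ∀ a ∈ w1L ++ w2L, ∀ r ∈ X.Q0, X.coord r = vecC a → r ∈ S := fun a ha r hr hre =>
    hS r hr ⟨a, List.mem_append.mp ha, hre⟩
  have hsplit : ∀ r s : X.HH, r ∈ X.Q0 → s ∈ X.Q0 → X.coord r = X.coord s → s ∈ S → r ∈ S := by
    intro r s hr hs hrs hsS
    have h : X.coord (s⁻¹ * r) = 0 := by
      have h1 := X.coord_mul hs (mul_mem (inv_mem hs) hr)
      rw [mul_inv_cancel_left, hrs] at h1
      exact left_eq_add.mp h1
    rcases (X.coord_eq_zero (mul_mem (inv_mem hs) hr)).mp h with h' | h'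
    · rwa [← inv_mul_eq_one.mp h']
    · rw [inv_mul_eq_iff_eq_mul] at h'
      rw [h']
      exact mul_mem hsS hz
  rcases w14_span c hc with rfl | ⟨a, ha, rfl | ⟨a', ha', rfl⟩⟩
  · rw [vecC_zero'] at hce
    rcases (X.coord_eq_zero hq).mp hce with h | h <;> rw [h]
    · exact one_mem _
    · exact hz
  · exact hW _ ha q hq hce
  · obtain ⟨r, hr, hrc⟩ := X.coord_surjective (vecC a)
    obtain ⟨s, hs, hsc⟩ := X.coord_surjective (vecC a')
    refine hsplit q (r * s) hq (mul_mem hr hs) ?_ (mul_mem (hW a ha r hr hrc) (hW a' ha' s hs hsc))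
    rw [hce, X.coord_mul hr hs, hrc, hsc, vecC_xor' a ha a' ha']

variable [hn : (B.subgroupOf (Subgroup.centralizer (B : Set G))).Normal]

include X hB in
theorem normal_pGroup_eq_bot {p : ℕ} (hp : p.Prime) (P : Subgroup (GN B)) [P.Normal]
    (hP : IsPGroup p P) : P = ⊥ := by
  haveI : Fact p.Prime := ⟨hp⟩
  haveI : Fact (Nat.Prime 2) := ⟨Nat.prime_two⟩
  obtain ⟨PC, hPC⟩ : ∃ S, S = P.subgroupOf (Subgroup.centralizer ({X.zS hB} : Set (GN B))) := ⟨_, rfl⟩
  haveI hPCn : PC.Normal := hPC ▸ inferInstance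
  have hPCp : IsPGroup p PC := hPC ▸ hP.comap_subtype
  have hz2 := X.zS_sq hB
  have hzne : X.zS hB ≠ 1 := fun h => by
    have h' := X.zS_order hB
    rw [h, orderOf_one] at h'
    norm_num at h'
  -- the conjugates of the involution over the fourteen classes
  have hconj : ∀ q ∈ X.Q0, isW14 (X.coord q) →
      ∃ g : GN B, g * X.zS hB * g⁻¹ = X.pS hB q := fun q hq hW =>
    isConj_iff.mp ((X.isConj_pC_iff hB hq).mpr (Or.inr hW))
  obtain ⟨q0, hq0, hq0c⟩ := X.coord_surjective (vecC 32)
  have hq0W : isW14 (X.coord q0) := hq0c ▸ vecC32_mem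
  have hq0z : X.pS hB q0 ≠ X.zS hB := fun h => by
    have h1 := X.pS_injOn hB hq0 X.zh_mem h
    refine vecC32_ne ?_
    rw [← hq0c, h1, (X.coord_eq_zero X.zh_mem).mpr (Or.inr rfl)]
  by_cases hp2 : p = 2
  · subst hp2
    by_contra hne
    have hle : PC ≤ X.QC hB := by
      rw [← X.pCore_eq hB]
      exact Cores.le_pCore hPCp
    -- an element of `P` commuting with the involution
    have hzP : X.zS hB ∈ P := by
      obtain ⟨Z, hZ⟩ : ∃ Z, Z = Subgroup.zpowers (X.zS hB) := ⟨_, rfl⟩
      have hZp : IsPGroup 2 Z := IsPGroup.of_card (n := 1) (by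
        rw [hZ, Nat.card_zpowers, X.zS_order hB, pow_one])
      haveI : Nontrivial P := (Subgroup.nontrivial_iff_ne_bot P).mpr hne
      obtain ⟨n, hn0, hn1⟩ := hP.nontrivial_iff_card.mp inferInstance
      have hfix : ∃ y ∈ P, y ≠ 1 ∧ y * X.zS hB = X.zS hB * y := by
        by_contra hcon
        push Not at hcon
        -- otherwise the involution moves every nontrivial element of a set of odd size
        obtain ⟨f, hf⟩ : ∃ f : P → P, ∀ y, (f y : GN B) = X.zS hB * y * (X.zS hB)⁻¹ :=
          ⟨fun y => ⟨_, (inferInstance : P.Normal).conj_mem _ y.2 _⟩, fun _ => rfl⟩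
        have hzz : (X.zS hB)⁻¹ = X.zS hB := inv_eq_of_mul_eq_one_right hz2
        have hinv : Function.Involutive f := fun y => Subtype.ext (by
          rw [hf, hf, hzz]
          calc X.zS hB * (X.zS hB * y * X.zS hB) * X.zS hB
              = (X.zS hB * X.zS hB) * y * (X.zS hB * X.zS hB) := by group
            _ = y := by rw [hz2, one_mul, mul_one])
        classical
        have := Fintype.ofFinite P
        have hmod := Equiv.Perm.card_fixedPoints_modEq (p := 2) (n := 1)
          (f := (f : Function.End P)) (by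
            rw [pow_one]
            exact funext hinv)
        have hfp : Function.fixedPoints (f : Function.End P) = {(1 : P)} := by
          ext y
          simp only [Set.mem_singleton_iff]
          constructor
          · intro hy
            by_contra hy1
            refine hcon y.1 y.2 (fun h => hy1 (Subtype.ext h)) ?_
            have h : ((f y : P) : GN B) = (y : GN B) := congrArg Subtype.val hy
            rw [hf] at h
            exact (mul_inv_eq_iff_eq_mul.mp h).symm
          · intro hy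
            subst hy
            exact Subtype.ext (by rw [hf, OneMemClass.coe_one, mul_one, mul_inv_cancel])
        rw [← Nat.card_eq_fintype_card, ← Nat.card_eq_fintype_card, hn1,
          Nat.card_coe_set_eq, hfp, Set.ncard_singleton] at hmod
        have h2 : 2 ^ n % 2 = 0 := by
          obtain ⟨m, rfl⟩ : ∃ m, n = m + 1 := ⟨n - 1, by omega⟩
          rw [pow_succ]; omega
        unfold Nat.ModEq at hmod
        omega
      obtain ⟨y, hyP, hy1, hyz⟩ := hfix
      have hyC : y ∈ Subgroup.centralizer ({X.zS hB} : Set (GN B)) :=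
        Subgroup.mem_centralizer_singleton_iff.mpr hyz
      obtain ⟨q, hq, hqe⟩ := (X.mem_QC hB).mp
        (hle (show (⟨y, hyC⟩ : Subgroup.centralizer _) ∈ PC from hPC ▸ hyP))
      have hqy : X.pS hB q = y := congrArg Subtype.val hqe
      by_cases hqz : q = X.zh
      · rw [hqz] at hqy
        exact (show X.zS hB = y from hqy) ▸ hyP
      have hq1 : q ≠ 1 := fun h => hy1 (by rw [← hqy, h, map_one])
      obtain ⟨r, hr, hre⟩ := X.exists_move hq hq1 hqz
      have hmem : X.pS hB (r * q * r⁻¹) ∈ P := by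
        rw [map_mul, map_mul, map_inv, hqy]
        exact (inferInstance : P.Normal).conj_mem _ hyP _
      rw [hre, map_mul, hqy] at hmem
      exact (Subgroup.mul_mem_cancel_left P hyP).mp hmem
    -- so the whole extraspecial subgroup lies in `P`
    have hall : ∀ q ∈ X.Q0, X.pS hB q ∈ P := fun q hq =>
      X.mem_of_w14 (S := P.comap (X.pS hB)) hzP (fun q hq hW => by
        obtain ⟨g, hg⟩ := hconj q hq hW
        show X.pS hB q ∈ P
        rw [← hg]
        exact (inferInstance : P.Normal).conj_mem _ hzP _) hq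
    -- the involution is the only nontrivial central element of that subgroup
    obtain ⟨R, hR⟩ : ∃ R, R = (X.Q0.map (X.pS hB)).subgroupOf P := ⟨_, rfl⟩
    have hRmem : ∀ y : P, y ∈ R ↔ ∃ q ∈ X.Q0, X.pS hB q = y := fun y => by
      rw [hR, Subgroup.mem_subgroupOf, Subgroup.mem_map]
    have hnorm : ∀ n ∈ Subgroup.normalizer (R : Set P),
        (n : GN B) * X.zS hB = X.zS hB * (n : GN B) := by
      intro n hn'
      have hzR : (⟨X.zS hB, hzP⟩ : P) ∈ R := (hRmem _).mpr ⟨_, X.zh_mem, rfl⟩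
      obtain ⟨q, hq, hqe⟩ := (hRmem _).mp ((Subgroup.mem_normalizer_iff.mp hn' _).mp hzR)
      have hq1 : q ≠ 1 := fun h => by
        rw [h, map_one, Subgroup.coe_mul, Subgroup.coe_mul, Subgroup.coe_inv] at hqe
        exact hzne (conj_eq_one_iff.mp hqe.symm)
      by_cases hqz : q = X.zh
      · rw [hqz] at hqe
        simp only [Subgroup.coe_mul, Subgroup.coe_inv] at hqe
        exact mul_inv_eq_iff_eq_mul.mp (show X.zS hB = _ from hqe).symm
      exfalso
      obtain ⟨r, hr, hre⟩ := X.exists_move hq hq1 hqz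
      obtain ⟨r', hr', hre'⟩ := (hRmem _).mp
        ((Subgroup.mem_normalizer_iff''.mp hn' ⟨X.pS hB r, hall r hr⟩).mp
          ((hRmem _).mpr ⟨r, hr, rfl⟩))
      simp only [Subgroup.coe_mul, Subgroup.coe_inv] at hre'
      have hc : Commute (X.pS hB r') (X.zS hB) := (X.commute_zh r').map (X.pS hB)
      have hqe' : X.pS hB q = (n : GN B) * X.zS hB * (n : GN B)⁻¹ := by
        simpa only [Subgroup.coe_mul, Subgroup.coe_inv] using hqe
      have h3 : X.pS hB r * X.pS hB q * (X.pS hB r)⁻¹ = X.pS hB q := by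
        rw [hqe', show X.pS hB r = (n : GN B) * X.pS hB r' * (n : GN B)⁻¹ by rw [hre']; group]
        calc _ = (n : GN B) * (X.pS hB r' * X.zS hB * (X.pS hB r')⁻¹) * (n : GN B)⁻¹ := by group
          _ = _ := by rw [hc.eq, mul_inv_cancel_right]
      rw [← map_inv, ← map_mul, ← map_mul, hre, map_mul] at h3
      exact hzne (mul_eq_left.mp h3)
    -- hence it is all of `P`
    haveI : Group.IsNilpotent P := hP.isNilpotent
    have hRtop : R = ⊤ := by
      refine Group.normalizerCondition_of_isNilpotent R |> fun hcond => ?_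
      by_contra hRne
      have hlt := hcond (lt_top_iff_ne_top.mpr hRne)
      obtain ⟨n, hn', hnR⟩ := SetLike.exists_of_lt hlt
      have hnC : (n : GN B) ∈ Subgroup.centralizer ({X.zS hB} : Set (GN B)) :=
        Subgroup.mem_centralizer_singleton_iff.mpr (hnorm n hn')
      obtain ⟨q, hq, hqe⟩ := (X.mem_QC hB).mp
        (hle (show (⟨_, hnC⟩ : Subgroup.centralizer _) ∈ PC from hPC ▸ n.2))
      exact hnR ((hRmem n).mpr ⟨q, hq, congrArg Subtype.val hqe⟩)
    have hcent : ∀ g : GN B, g * X.zS hB * g⁻¹ = X.zS hB := by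
      intro g
      have hmem : g * X.zS hB * g⁻¹ ∈ P := (inferInstance : P.Normal).conj_mem _ hzP _
      obtain ⟨q, hq, hqe⟩ := (hRmem ⟨_, hmem⟩).mp (hRtop ▸ Subgroup.mem_top _)
      have hq1 : q ≠ 1 := fun h => by
        rw [h, map_one] at hqe
        exact hzne (conj_eq_one_iff.mp hqe.symm)
      by_cases hqz : q = X.zh
      · rw [hqz] at hqe
        exact (show X.zS hB = _ from hqe).symm
      exfalso
      obtain ⟨r, hr, hre⟩ := X.exists_move hq hq1 hqz
      have hrm : g⁻¹ * X.pS hB r * g⁻¹⁻¹ ∈ P :=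
        (inferInstance : P.Normal).conj_mem _ (hall r hr) _
      obtain ⟨r', hr', hre'⟩ := (hRmem ⟨_, hrm⟩).mp (hRtop ▸ Subgroup.mem_top _)
      have hre'' : X.pS hB r' = g⁻¹ * X.pS hB r * g⁻¹⁻¹ := hre'
      have hc : Commute (X.pS hB r') (X.zS hB) := (X.commute_zh r').map (X.pS hB)
      have hqe' : X.pS hB q = g * X.zS hB * g⁻¹ := hqe
      have h3 : X.pS hB r * X.pS hB q * (X.pS hB r)⁻¹ = X.pS hB q := by
        rw [hqe', show X.pS hB r = g * X.pS hB r' * g⁻¹ by rw [hre'']; group]
        calc _ = g * (X.pS hB r' * X.zS hB * (X.pS hB r')⁻¹) * g⁻¹ := by group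
          _ = _ := by rw [hc.eq, mul_inv_cancel_right]
      rw [← map_inv, ← map_mul, ← map_mul, hre, map_mul] at h3
      exact hzne (mul_eq_left.mp h3)
    obtain ⟨g, hg⟩ := hconj q0 hq0 hq0W
    exact hq0z (hg.symm.trans (hcent g))
  -- odd primes
  · have hcop : ∀ y ∈ P, y * y = 1 → y = 1 := fun y hy hyy => by
      obtain ⟨k, hk⟩ := hP ⟨y, hy⟩
      have hk' : y ^ p ^ k = 1 := by simpa using congrArg Subtype.val hk
      have h := pow_gcd_eq_one.mpr ⟨hk', (pow_two y).trans hyy⟩
      rwa [(((Nat.coprime_primes hp Nat.prime_two).mpr hp2).pow_left _ :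
        Nat.gcd (p ^ k) 2 = 1), pow_one] at h
    -- only the identity commutes with the involution
    have hfree : ∀ y ∈ P, y * X.zS hB = X.zS hB * y → y = 1 := by
      intro y hy hyz
      have hyC : y ∈ Subgroup.centralizer ({X.zS hB} : Set (GN B)) :=
        Subgroup.mem_centralizer_singleton_iff.mpr hyz
      have hPCQ : PC ≤ X.QC hB := by
        refine le_trans ?_ (X.centralizer_QC_le hB)
        rw [Subgroup.le_centralizer_iff]
        intro q hq x hx
        refine (Subgroup.commute_of_normal_of_disjoint PC (X.QC hB) hPCn inferInstance ?_ x q hx hq).eq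
        rw [Subgroup.disjoint_def]
        intro w hw1 hw2
        obtain ⟨k, hk⟩ := hPCp ⟨w, hw1⟩
        have hk' : w ^ p ^ k = 1 := by simpa using congrArg Subtype.val hk
        have h2 := pow_card_eq_one' (x := (⟨w, hw2⟩ : X.QC hB))
        rw [← Nat.card_congr (X.isoQC hB).toEquiv, X.card_Q0] at h2
        have h2' : w ^ 2 ^ 7 = 1 := by simpa using congrArg Subtype.val h2
        have h := pow_gcd_eq_one.mpr ⟨hk', h2'⟩
        rwa [(((Nat.coprime_primes hp Nat.prime_two).mpr hp2).pow _ _ :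
          Nat.gcd (p ^ k) (2 ^ 7) = 1), pow_one] at h
      obtain ⟨q, hq, hqe⟩ := (X.mem_QC hB).mp
        (hPCQ (show (⟨y, hyC⟩ : Subgroup.centralizer _) ∈ PC from hPC ▸ hy))
      have hqy : X.pS hB q = y := congrArg Subtype.val hqe
      obtain ⟨k, hk⟩ := hP ⟨y, hy⟩
      have hk' : y ^ p ^ k = 1 := by simpa using congrArg Subtype.val hk
      have h2 : q ^ 2 ^ 7 = 1 := by
        have h := pow_card_eq_one' (x := (⟨q, hq⟩ : X.Q0))
        rw [X.card_Q0] at h
        simpa using congrArg Subtype.val h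
      have h2' : y ^ 2 ^ 7 = 1 := by rw [← hqy, ← map_pow, h2, map_one]
      have h := pow_gcd_eq_one.mpr ⟨hk', h2'⟩
      rwa [(((Nat.coprime_primes hp Nat.prime_two).mpr hp2).pow _ _ :
        Nat.gcd (p ^ k) (2 ^ 7) = 1), pow_one] at h
    -- so the involution inverts `P`, and so does each of its conjugates
    have hinv : ∀ y ∈ P, X.zS hB * y * (X.zS hB)⁻¹ = y⁻¹ := by
      have hzz : (X.zS hB)⁻¹ = X.zS hB := inv_eq_of_mul_eq_one_right hz2
      let f : P → P := fun y => ⟨(y : GN B)⁻¹ * (X.zS hB * y * (X.zS hB)⁻¹),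
        mul_mem (inv_mem y.2) ((inferInstance : P.Normal).conj_mem _ y.2 _)⟩
      have hinj : Function.Injective f := fun x y h => by
        have h' : (x : GN B)⁻¹ * (X.zS hB * x * (X.zS hB)⁻¹) =
            (y : GN B)⁻¹ * (X.zS hB * y * (X.zS hB)⁻¹) := congrArg Subtype.val h
        refine Subtype.ext (mul_inv_eq_one.mp (hfree _ (mul_mem y.2 (inv_mem x.2)) ?_)).symm
        have h'' : (y : GN B) * (x : GN B)⁻¹ * X.zS hB * (x : GN B) =
            X.zS hB * (y : GN B) := by
          calc (y : GN B) * (x : GN B)⁻¹ * X.zS hB * (x : GN B)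
              = (y : GN B) * ((x : GN B)⁻¹ * (X.zS hB * x * (X.zS hB)⁻¹)) * X.zS hB := by group
            _ = _ := by rw [h']; group
        calc (y : GN B) * (x : GN B)⁻¹ * X.zS hB
            = (y : GN B) * (x : GN B)⁻¹ * X.zS hB * (x : GN B) * (x : GN B)⁻¹ := by group
          _ = _ := by rw [h'', mul_assoc]
      intro y hy
      obtain ⟨x, hx⟩ := Finite.surjective_of_injective hinj ⟨y, hy⟩
      have hx' : (x : GN B)⁻¹ * (X.zS hB * x * (X.zS hB)⁻¹) = y := congrArg Subtype.val hx
      rw [← hx', hzz]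
      calc X.zS hB * ((x : GN B)⁻¹ * (X.zS hB * x * X.zS hB)) * X.zS hB
          = X.zS hB * (x : GN B)⁻¹ * X.zS hB * x * (X.zS hB * X.zS hB) := by group
        _ = X.zS hB * (x : GN B)⁻¹ * X.zS hB * x := by rw [hz2, mul_one]
        _ = _ := by rw [mul_inv_rev, mul_inv_rev, mul_inv_rev, inv_inv, hzz]; group
    have hinv' : ∀ g : GN B, ∀ y ∈ P,
        (g * X.zS hB * g⁻¹) * y * (g * X.zS hB * g⁻¹)⁻¹ = y⁻¹ := by
      intro g y hy
      have h := hinv (g⁻¹ * y * g⁻¹⁻¹) ((inferInstance : P.Normal).conj_mem _ hy _)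
      calc (g * X.zS hB * g⁻¹) * y * (g * X.zS hB * g⁻¹)⁻¹
          = g * (X.zS hB * (g⁻¹ * y * g⁻¹⁻¹) * (X.zS hB)⁻¹) * g⁻¹ := by group
        _ = _ := by rw [h]; group
    obtain ⟨g1, hg1⟩ := hconj q0 hq0 hq0W
    obtain ⟨g2, hg2⟩ := hconj (X.zh * q0) (mul_mem X.zh_mem hq0) (by
      rw [X.coord_mul X.zh_mem hq0, (X.coord_eq_zero X.zh_mem).mpr (Or.inr rfl), zero_add]
      exact hq0W)
    rw [Subgroup.eq_bot_iff_forall]
    intro y hy
    refine hcop y hy ?_
    have h12 : X.pS hB (X.zh * q0) * y * (X.pS hB (X.zh * q0))⁻¹ = y⁻¹ := hg2 ▸ hinv' g2 y hy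
    have h1 : X.pS hB q0 * y * (X.pS hB q0)⁻¹ = y⁻¹ := hg1 ▸ hinv' g1 y hy
    rw [map_mul] at h12
    have h3 : X.zS hB * y⁻¹ * (X.zS hB)⁻¹ = y⁻¹ := by
      calc X.zS hB * y⁻¹ * (X.zS hB)⁻¹
          = X.zS hB * (X.pS hB q0 * y * (X.pS hB q0)⁻¹) * (X.zS hB)⁻¹ := by rw [h1]
        _ = (X.pS hB X.zh * X.pS hB q0) * y * (X.pS hB X.zh * X.pS hB q0)⁻¹ := by
          rw [show X.zS hB = X.pS hB X.zh from rfl]; group
        _ = _ := h12
    rw [hinv _ (inv_mem hy), inv_inv] at h3
    exact mul_eq_one_iff_eq_inv.mpr h3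

include X hB in
theorem fitting_le : fittingSubgroup (Subgroup.centralizer (B : Set G)) ≤
    B.subgroupOf (Subgroup.centralizer (B : Set G)) := by
  have hbot : fittingSubgroup (GN B) = ⊥ := by
    rw [Cores.fittingSubgroup_eq_iSup_pCore, eq_bot_iff]
    refine iSup_le fun p => ?_
    haveI : Fact (Nat.Prime p) := ⟨p.2⟩
    exact (X.normal_pGroup_eq_bot hB p.2 _ (Cores.pCore_isPGroup _)).le
  have h := Cores.map_fittingSubgroup_le
    (QuotientGroup.mk' (B.subgroupOf (Subgroup.centralizer (B : Set G))))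
    (QuotientGroup.mk'_surjective _)
  rw [hbot, le_bot_iff, Subgroup.map_eq_bot_iff, QuotientGroup.ker_mk'] at h
  exact h

include X hB in
/-- An element of the normaliser centralising the layer moves the centraliser inside `B`. -/
theorem comm_mem_of_layer {C : Subgroup G} (hC : C = Subgroup.centralizer (B : Set G)) {t : G}
    (htC : ∀ x ∈ C, t * x * t⁻¹ ∈ C)
    (hcent : ∀ x ∈ (layer C).map C.subtype, t * x = x * t) {c : G} (hc : c ∈ C) :
    t * c * t⁻¹ * c⁻¹ ∈ B := by
  subst hC
  obtain ⟨C, hC⟩ : ∃ C, C = Subgroup.centralizer (B : Set G) := ⟨_, rfl⟩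
  have hmem : t * c * t⁻¹ * c⁻¹ ∈ Subgroup.centralizer (B : Set G) :=
    mul_mem (htC c hc) (inv_mem hc)
  obtain ⟨u, hu⟩ : ∃ u : Subgroup.centralizer (B : Set G), u = ⟨_, hmem⟩ := ⟨_, rfl⟩
  have hcenB : B.subgroupOf (Subgroup.centralizer (B : Set G)) ≤
      Subgroup.center (Subgroup.centralizer (B : Set G)) := by
    intro x hx
    rw [Subgroup.mem_center_iff]
    intro g
    exact Subtype.ext ((Subgroup.mem_centralizer_iff.mp g.2 _ hx).symm)
  have hlay : u ∈ Subgroup.centralizer
      (layer (Subgroup.centralizer (B : Set G)) : Set (Subgroup.centralizer (B : Set G))) := by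
    rw [Subgroup.mem_centralizer_iff]
    intro x hx
    refine Subtype.ext ?_
    rw [Subgroup.coe_mul, Subgroup.coe_mul, hu]
    show (x : G) * (t * c * t⁻¹ * c⁻¹) = t * c * t⁻¹ * c⁻¹ * (x : G)
    have hx1 : t * (x : G) = (x : G) * t := hcent _ ⟨x, hx, rfl⟩
    obtain ⟨w, hw⟩ : ∃ w : G, w = c⁻¹ * (x : G) * c := ⟨_, rfl⟩
    have hwE : t * w = w * t := by
      refine hcent _ ⟨(⟨c, hc⟩ : Subgroup.centralizer (B : Set G))⁻¹ * x * ⟨c, hc⟩, ?_, hw.symm⟩
      simpa using (inferInstance : (layer (Subgroup.centralizer (B : Set G))).Normal).conj_mem x hx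
        ((⟨c, hc⟩ : Subgroup.centralizer (B : Set G))⁻¹)
    have hw' : c⁻¹ * (x : G) = w * c⁻¹ := by rw [hw]; group
    calc (x : G) * (t * c * t⁻¹ * c⁻¹) = ((x : G) * t) * c * t⁻¹ * c⁻¹ := by group
      _ = t * ((x : G) * c) * t⁻¹ * c⁻¹ := by rw [← hx1]; group
      _ = t * (c * w) * t⁻¹ * c⁻¹ := by rw [hw]; group
      _ = t * c * (w * t⁻¹) * c⁻¹ := by group
      _ = t * c * (t⁻¹ * w) * c⁻¹ := by
        rw [show w * t⁻¹ = t⁻¹ * w from (Commute.inv_right (show Commute w t from hwE.symm)).eq]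
      _ = t * c * t⁻¹ * (w * c⁻¹) := by group
      _ = _ := by rw [← hw']; group
  have hgen : u ∈ Subgroup.centralizer
      (generalizedFittingSubgroup (Subgroup.centralizer (B : Set G)) :
        Set (Subgroup.centralizer (B : Set G))) := by
    rw [Subgroup.mem_centralizer_iff]
    intro x hx
    have hle : generalizedFittingSubgroup (Subgroup.centralizer (B : Set G)) ≤
        Subgroup.centralizer {u} := by
      refine sup_le (fun y hy => ?_) (fun y hy => ?_)
      · exact Subgroup.mem_centralizer_singleton_iff.mpr (Subgroup.mem_centralizer_iff.mp hlay y hy)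
      · exact Subgroup.mem_centralizer_singleton_iff.mpr
          (Subgroup.mem_center_iff.mp (hcenB (X.fitting_le hB hy)) u).symm
    exact Subgroup.mem_centralizer_singleton_iff.mp (hle hx)
  have h := X.fitting_le hB (FStarTools.center_genFitting_le hgen)
  rw [hu] at h
  exact h

end Ctx

end Cfsg.Agent.Lib.MonsterHeld52
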