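import Cfsg.Agent.Lib.MonsterHeld52.Quotient
import Cfsg.Agent.Lib.LeechMod2.MonsterCore
import Cfsg.Agent.Lib.LargeExtra.Quotient
import Cfsg.Agent.Lib.Co1Local52.Lift
import Cfsg.Agent.Lib.Co1Local52.Setup
import Cfsg.Agent.Lib.FusionP3.GenExtra.Iso

/-!
Monster type: the centraliser inside `C(z)` of an element of order 7 lying over the permutation, its
extraspecial part of order `2 ^ 7`, and the conjugates of `z` there.

Owner: helper52.
-/

set_option autoImplicit false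
set_option maxRecDepth 20000

namespace Cfsg.Agent.Lib.MonsterHeld52

open Cfsg Cfsg.Agent.Lib.Leech
open Cfsg.Agent.Lib.LeechMod2

local notation "Cen[" z "]" => Subgroup.centralizer ({z} : Set _)

theorem Eqv.add {u v u' v' : leechLattice} (h : Eqv u v) (h' : Eqv u' v') :
    Eqv (u + u') (v + v') := by
  obtain ⟨t, ht⟩ := h
  obtain ⟨s, hs⟩ := h'
  exact ⟨t + s, by rw [show u + u' - (v + v') = (u - v) + (u' - v') by abel, ht, hs]; abel⟩

theorem val_zero : val 0 = 0 := Subtype.ext (map_zero valHom)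

/-- The data. -/
structure Ctx {G : Type*} [Group G] (z : G) (Q : Subgroup (Subgroup.centralizer ({z} : Set G)))
    [Q.Normal] (e : (Subgroup.centralizer ({z} : Set G)) ⧸ Q ≃* Spor.Co1)
    (ψ : leechLattice → Q ⧸ Subgroup.center Q) (b : Subgroup.centralizer ({z} : Set G)) : Prop where
  hS : IsExtraspecialCentralizerSetting z Q 12
  hψ : IsLeechModTwoIso Q e ψ
  hb7 : b ^ 7 = 1
  hbe : e (QuotientGroup.mk b) = β0

variable {G : Type*} [Group G] [Finite G] {z : G} {Q : Subgroup (Subgroup.centralizer ({z} : Set G))}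
  [Q.Normal] {e : Cen[z] ⧸ Q ≃* Spor.Co1} {ψ : leechLattice → Q ⧸ Subgroup.center Q}
  {b : Subgroup.centralizer ({z} : Set G)}

namespace Ctx

section

variable (X : Ctx z Q e ψ b)

/-- The map onto the quotient. -/
noncomputable def pr (_X : Ctx z Q e ψ b) : Cen[z] →* Spor.Co1 :=
  e.toMonoidHom.comp (QuotientGroup.mk' Q)

include X

theorem pr_eq_one {x : Cen[z]} : X.pr x = 1 ↔ x ∈ Q :=
  ⟨fun h => (QuotientGroup.eq_one_iff x).mp (e.injective (h.trans (map_one e).symm)),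
    fun h => by show e (QuotientGroup.mk x) = 1; rw [(QuotientGroup.eq_one_iff x).mpr h, map_one]⟩

theorem pr_b : X.pr b = β0 := X.hbe

theorem pr_surjective : Function.Surjective X.pr :=
  e.surjective.comp (QuotientGroup.mk'_surjective Q)

theorem b_ne_one : b ≠ 1 := fun h => β0_ne_one (X.pr_b.symm.trans ((congrArg X.pr h).trans (map_one X.pr)))

theorem orderOf_b : orderOf b = 7 := by
  haveI : Fact (Nat.Prime 7) := ⟨by norm_num⟩
  exact orderOf_eq_prime X.hb7 X.b_ne_one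

theorem card_zpowers_b : Nat.card (Subgroup.zpowers b) = 7 := by
  rw [Nat.card_zpowers, X.orderOf_b]

theorem not_dvd : ¬ 7 ∣ Nat.card X.pr.ker := by
  have : X.pr.ker = Q := by
    ext x; exact ⟨fun h => X.pr_eq_one.mp h, fun h => X.pr_eq_one.mpr h⟩
  rw [this, X.hS.2.2.2.1]
  norm_num

theorem zpowers_inter {x : Cen[z]} (hx : x ∈ Subgroup.zpowers b) (hQ : x ∈ Q) : x = 1 := by
  have h1 : x ^ 7 = 1 := by
    obtain ⟨i, rfl⟩ := Subgroup.mem_zpowers_iff.mp hx
    rw [← zpow_natCast, ← zpow_mul, mul_comm, zpow_mul, zpow_natCast, X.hb7, one_zpow]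
  have h2 := pow_card_eq_one' (x := (⟨x, hQ⟩ : Q))
  rw [X.hS.2.2.2.1] at h2
  have h3 : x ^ (2 ^ (2 * 12 + 1)) = 1 := by
    simpa only [SubgroupClass.coe_pow, OneMemClass.coe_one] using congrArg Subtype.val h2
  have h4 := pow_gcd_eq_one.mpr ⟨h1, h3⟩
  rwa [show Nat.gcd 7 (2 ^ (2 * 12 + 1)) = 1 by norm_num, pow_one] at h4

end

/-- The centraliser of `b` inside `C(z)`. -/
abbrev HH (_X : Ctx z Q e ψ b) : Subgroup (Subgroup.centralizer ({z} : Set G)) :=
  Subgroup.centralizer {b}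

/-- Its part in `Q`. -/
abbrev Q0 (X : Ctx z Q e ψ b) : Subgroup X.HH := Q.subgroupOf X.HH

variable (X : Ctx z Q e ψ b)

theorem pr_mem_C7 (h : X.HH) : X.pr (h : Cen[z]) ∈ C7 := by
  rw [C7, Subgroup.mem_centralizer_singleton_iff, ← X.pr_b, ← map_mul, ← map_mul,
    Subgroup.mem_centralizer_singleton_iff.mp h.2]

/-- The representation of the centraliser. -/
noncomputable def theta : X.HH →* Matrix.SpecialLinearGroup (Fin 3) (ZMod 2) :=
  phiBar.comp ((X.pr.comp X.HH.subtype).codRestrict C7 X.pr_mem_C7)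

theorem exists_lift {c : Spor.Co1} (hc : c ∈ C7) : ∃ h : X.HH, X.pr (h : Cen[z]) = c := by
  obtain ⟨g, rfl⟩ := X.pr_surjective c
  rw [C7, Subgroup.mem_centralizer_singleton_iff] at hc
  have h1 : X.pr (g * b * g⁻¹) = X.pr b := by
    rw [map_mul, map_mul, map_inv, X.pr_b, hc, mul_inv_cancel_right]
  obtain ⟨q, hq, hqe⟩ := Co1Local52.exists_conj_ker (by norm_num : Nat.Prime 7) X.pr X.not_dvd
    X.hb7 (show (g * b * g⁻¹) ^ 7 = 1 by rw [conj_pow, X.hb7, mul_one, mul_inv_cancel]) h1.symm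
    (by rw [X.pr_b]; exact β0_ne_one)
  refine ⟨⟨q⁻¹ * g, Subgroup.mem_centralizer_singleton_iff.mpr ?_⟩, ?_⟩
  · calc q⁻¹ * g * b = q⁻¹ * (g * b * g⁻¹) * g := by group
      _ = q⁻¹ * (q * b * q⁻¹) * g := by rw [hqe]
      _ = b * (q⁻¹ * g) := by group
  · show X.pr (q⁻¹ * g) = X.pr g
    rw [map_mul, map_inv, MonoidHom.mem_ker.mp hq, inv_one, one_mul]

theorem theta_surjective : Function.Surjective X.theta := fun M => by
  obtain ⟨c, hc⟩ := phiBar_surjective M
  obtain ⟨h, hh⟩ := X.exists_lift c.2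
  refine ⟨h, ?_⟩
  rw [← hc]
  exact congrArg phiBar (Subtype.ext hh)

theorem theta_eq_one {h : X.HH} : X.theta h = 1 ↔
    ∃ j : ℕ, ∃ q ∈ Q, (h : Cen[z]) = b ^ j * q := by
  show phiBar _ = 1 ↔ _
  rw [phiBar_eq_one_iff]
  constructor
  · rintro ⟨j, hj⟩
    refine ⟨j, (b ^ j)⁻¹ * (h : Cen[z]), X.pr_eq_one.mp ?_, (mul_inv_cancel_left _ _).symm⟩
    rw [map_mul, map_inv, map_pow, X.pr_b, show X.pr (h : Cen[z]) = β0 ^ j from hj, inv_mul_cancel]
  · rintro ⟨j, q, hq, e1⟩
    refine ⟨j, ?_⟩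
    show X.pr (h : Cen[z]) = _
    rw [e1, map_mul, map_pow, X.pr_b, X.pr_eq_one.mpr hq, mul_one]

include X in
theorem zCen_mem_Q : (⟨z, Subgroup.mem_centralizer_singleton_iff.mpr rfl⟩ : Cen[z]) ∈ Q :=
  MonsterCore.z_mem_Q X.hS

/-- The element `z`. -/
def zh : X.HH :=
  ⟨⟨z, Subgroup.mem_centralizer_singleton_iff.mpr rfl⟩, Subgroup.mem_centralizer_singleton_iff.mpr
    (Subtype.ext (Subgroup.mem_centralizer_singleton_iff.mp b.2).symm)⟩

theorem zh_mem : X.zh ∈ X.Q0 := X.zCen_mem_Q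

/-! ### coordinates -/

include X in
theorem psi_act (q : Q) (v : leechLattice) (hv : ψ v = QuotientGroup.mk q) :
    ψ (π0 • v) = QuotientGroup.mk
      ⟨b * q * b⁻¹, (inferInstance : Q.Normal).conj_mem _ q.2 b⟩ :=
  X.hψ.2.2.2 b π0 X.hbe.symm v q hv

theorem exists_coord {q : X.HH} (hq : q ∈ X.Q0) :
    ∃ x : V6, ψ (val (lift x)) = QuotientGroup.mk ⟨(q : Cen[z]), hq⟩ := by
  obtain ⟨v, hv⟩ := X.hψ.2.1 (QuotientGroup.mk ⟨(q : Cen[z]), hq⟩)
  have h1 := X.psi_act _ v hv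
  have hfix : b * (q : Cen[z]) * b⁻¹ = (q : Cen[z]) :=
    mul_inv_eq_iff_eq_mul.mpr (Subgroup.mem_centralizer_singleton_iff.mp q.2).symm
  have he : Eqv (π0 • v) v := (MonsterCore.psi_eq_iff X.hψ _ _).mp (by
    rw [h1, hv]; exact congrArg QuotientGroup.mk (Subtype.ext hfix))
  have hpow : ∀ n : ℕ, Eqv (π0 ^ n • v) v := by
    intro n
    induction n with
    | zero => rw [pow_zero, one_smul]; exact Eqv.rfl' v
    | succ n ih => rw [pow_succ', mul_smul]; exact (ih.smul π0).trans he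
  have hsum : ∀ n : ℕ, Eqv (∑ i ∈ Finset.range n, π0 ^ i • v) ((n : ℤ) • v) := by
    intro n
    induction n with
    | zero => simp only [Finset.range_zero, Finset.sum_empty, Nat.cast_zero, zero_smul]; exact Eqv.rfl' _
    | succ n ih =>
      rw [Finset.sum_range_succ, Nat.cast_succ, add_smul, one_smul]
      exact ih.add (hpow n)
  obtain ⟨w, hw⟩ : ∃ w, w = ∑ i ∈ Finset.range 7, π0 ^ i • v := ⟨_, rfl⟩
  have hwfix : π0 • w = w := by
    rw [hw, ← toHom_apply, map_sum]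
    simp only [toHom_apply, ← mul_smul, ← pow_succ']
    have e7 := Finset.sum_range_succ' (fun i => π0 ^ i • v) 7
    rw [Finset.sum_range_succ, π0_pow7, pow_zero, one_smul] at e7
    exact (add_right_cancel e7).symm
  have hwv : Eqv w v := by
    refine (hw ▸ hsum 7).trans ⟨(3 : ℤ) • v, ?_⟩
    rw [show ((7 : ℕ) : ℤ) = 7 from rfl]
    rw [show (7 : ℤ) • v - v = (7 : ℤ) • v - (1 : ℤ) • v by rw [one_smul], ← sub_smul, ← add_smul]
    norm_num
  obtain ⟨P, rfl⟩ := exists_val hwfix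
  refine ⟨red P, ?_⟩
  rw [← hv, MonsterCore.psi_eq_iff X.hψ]
  exact (eqv_val_iff.mpr (red_lift _)).trans hwv

/-- The class of an element. -/
noncomputable def coord (q : X.HH) : V6 :=
  open Classical in if hq : q ∈ X.Q0 then Classical.choose (X.exists_coord hq) else 0

theorem coord_spec {q : X.HH} (hq : q ∈ X.Q0) :
    ψ (val (lift (X.coord q))) = QuotientGroup.mk ⟨(q : Cen[z]), hq⟩ := by
  rw [coord, dif_pos hq]
  exact Classical.choose_spec (X.exists_coord hq)

theorem coord_of_eq {q : X.HH} (hq : q ∈ X.Q0) {P : Fin 6 → ℤ}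
    (h : ψ (val P) = QuotientGroup.mk ⟨(q : Cen[z]), hq⟩) : X.coord q = red P := by
  rw [← X.coord_spec hq, MonsterCore.psi_eq_iff X.hψ] at h
  have h' : Eqv (val P) (val (lift (X.coord q))) := h
  rw [eqv_val_iff, red_lift] at h'
  exact h'.symm

theorem coord_mul {q r : X.HH} (hq : q ∈ X.Q0) (hr : r ∈ X.Q0) :
    X.coord (q * r) = X.coord q + X.coord r := by
  rw [X.coord_of_eq (mul_mem hq hr) (P := lift (X.coord q) + lift (X.coord r)) (by
    rw [val_add, X.hψ.1, X.coord_spec hq, X.coord_spec hr]; rfl), red_add, red_lift, red_lift]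

theorem coord_eq_zero {q : X.HH} (hq : q ∈ X.Q0) : X.coord q = 0 ↔ q = 1 ∨ q = X.zh := by
  constructor
  · intro h
    have h1 := X.coord_spec hq
    rw [h, show lift 0 = 0 by funext j; simp [lift], val_zero, MonsterCore.psi_zero X.hψ] at h1
    rcases MonsterCore.center_cases X.hS ((QuotientGroup.eq_one_iff _).mp h1.symm) with e1 | e1
    · exact Or.inl (Subtype.ext (congrArg (fun x : Q => (x : Cen[z])) e1))
    · exact Or.inr (Subtype.ext (congrArg (fun x : Q => (x : Cen[z])) e1))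
  · intro h
    rw [X.coord_of_eq hq (P := 0) ?_]
    · funext j; simp [red]
    rw [val_zero, MonsterCore.psi_zero X.hψ, eq_comm, QuotientGroup.eq_one_iff]
    rcases h with rfl | rfl
    · exact one_mem _
    · exact MonsterCore.zQ_center X.hS

theorem coord_surjective (x : V6) : ∃ q ∈ X.Q0, X.coord q = x := by
  obtain ⟨q, hq⟩ := QuotientGroup.mk_surjective (ψ (val (lift x)))
  have h1 := X.psi_act q _ hq.symm
  rw [val_fixed, ← hq] at h1
  have hmem : b * (q : Cen[z]) * b⁻¹ = q := by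
    rcases MonsterCore.center_cases X.hS (QuotientGroup.eq.mp h1) with e1 | e1
    · exact (congrArg (fun x : Q => (x : Cen[z])) (inv_mul_eq_one.mp e1)).symm
    exfalso
    obtain ⟨zC, hzC⟩ : ∃ zC : Cen[z], zC = (MonsterCore.zQ X.hS : Cen[z]) := ⟨_, rfl⟩
    have e2 : b * (q : Cen[z]) * b⁻¹ = q * zC := by
      rw [hzC]
      exact congrArg (fun x : Q => (x : Cen[z])) (inv_mul_eq_iff_eq_mul.mp e1)
    have hzb : ∀ g : Cen[z], g * zC * g⁻¹ = zC := fun g => by
      rw [mul_inv_eq_iff_eq_mul, hzC]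
      exact Subtype.ext (Subgroup.mem_centralizer_singleton_iff.mp g.2)
    have key : ∀ n : ℕ, b ^ n * (q : Cen[z]) * (b ^ n)⁻¹ = q * zC ^ n := by
      intro n
      induction n with
      | zero => simp
      | succ n ih =>
        calc b ^ (n + 1) * (q : Cen[z]) * (b ^ (n + 1))⁻¹
            = b * (b ^ n * q * (b ^ n)⁻¹) * b⁻¹ := by rw [pow_succ']; group
          _ = (b * q * b⁻¹) * (b * zC ^ n * b⁻¹) := by rw [ih]; group
          _ = q * zC * zC ^ n := by rw [e2, ← conj_pow, hzb]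
          _ = _ := by rw [mul_assoc, ← pow_succ']
    have h7 := key 7
    rw [X.hb7, one_mul, inv_one, mul_one, left_eq_mul] at h7
    have hz7 : z ^ 7 = 1 := by
      have := congrArg Subtype.val h7
      rw [SubgroupClass.coe_pow, hzC] at this
      exact this
    have h2 := orderOf_dvd_of_pow_eq_one hz7
    rw [X.hS.1] at h2
    norm_num at h2
  refine ⟨⟨q, Subgroup.mem_centralizer_singleton_iff.mpr (mul_inv_eq_iff_eq_mul.mp hmem).symm⟩,
    q.2, ?_⟩
  rw [X.coord_of_eq q.2 (P := lift x) hq.symm, red_lift]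

theorem coord_conj (h : X.HH) {q : X.HH} (hq : q ∈ X.Q0) :
    ∃ g : CC, phi g = X.theta h ∧ X.coord (h * q * h⁻¹) = actV (g : Co0) (X.coord q) := by
  obtain ⟨g, hg⟩ := qCC_surjective ⟨X.pr (h : Cen[z]), X.pr_mem_C7 h⟩
  refine ⟨g, by rw [← phiBar_qCC, hg]; rfl, ?_⟩
  obtain ⟨R, hR, hR'⟩ := exists_smul_val g.2 (lift (X.coord q))
  rw [red_lift] at hR'
  rw [← hR']
  refine X.coord_of_eq ((inferInstance : X.Q0.Normal).conj_mem q hq h) ?_
  rw [← hR, X.hψ.2.2.2 (h : Cen[z]) (g : Co0) (congrArg Subtype.val hg) _ _ (X.coord_spec hq)]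
  rfl

theorem card_Q0 : Nat.card X.Q0 = 2 ^ 7 := by
  let f : X.Q0 →* Multiplicative V6 :=
    MonoidHom.mk' (fun q => Multiplicative.ofAdd (X.coord (q : X.HH))) fun q r => by
      show Multiplicative.ofAdd (X.coord ((q : X.HH) * r)) = _
      rw [X.coord_mul q.2 r.2]
      rfl
  have hs : Function.Surjective f := fun w => by
    obtain ⟨q, hq, hqw⟩ := X.coord_surjective w.toAdd
    exact ⟨⟨q, hq⟩, congrArg Multiplicative.ofAdd hqw⟩
  have hk : Nat.card f.ker = 2 := by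
    have h : (f.ker : Set X.Q0) = {1, ⟨X.zh, X.zh_mem⟩} := by
      ext q
      simp only [SetLike.mem_coe, MonoidHom.mem_ker, Set.mem_insert_iff, Set.mem_singleton_iff]
      rw [show (f q = 1 ↔ X.coord (q : X.HH) = 0) from
        ⟨fun h => Multiplicative.ofAdd.injective h, fun h => congrArg Multiplicative.ofAdd h⟩,
        X.coord_eq_zero q.2]
      exact or_congr ⟨fun h => Subtype.ext h, fun h => congrArg Subtype.val h⟩
        ⟨fun h => Subtype.ext h, fun h => congrArg Subtype.val h⟩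
    rw [← SetLike.coe_sort_coe, h, Nat.card_coe_set_eq, Set.ncard_pair]
    intro e1
    have : z = 1 := congrArg (fun y : X.Q0 => (((y : X.HH) : Cen[z]) : G)) e1.symm
    have h2 := X.hS.1
    rw [this, orderOf_one] at h2
    norm_num at h2
  have h := Subgroup.card_mul_index f.ker
  rw [Subgroup.index_ker, MonoidHom.range_eq_top.2 hs, Subgroup.card_top, hk,
    Nat.card_congr Multiplicative.toAdd, Nat.card_fun, Nat.card_zmod, Nat.card_eq_fintype_card,
    Fintype.card_fin] at h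
  rw [← h]
  norm_num

/-! ### moves -/

include X in
theorem zpowers_odd : Odd (Nat.card ↥(Subgroup.zpowers (b : G))) := by
  rw [Nat.card_zpowers, Subgroup.orderOf_coe, X.orderOf_b]
  decide

include X in
theorem setting : ∃ a : G, LargeExtra.TwoConjugate.Setting (Q.map Cen[z].subtype) z a ∧
    (Subgroup.center ↥(Q.map Cen[z].subtype)).map (Q.map Cen[z].subtype).subtype =
      Subgroup.zpowers z ∧ IsPGroup 2 ↥(Q.map Cen[z].subtype) := by
  haveI : Fact (Nat.Prime 2) := ⟨Nat.prime_two⟩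
  obtain ⟨g, ⟨hq, hmem⟩, hne⟩ := X.hS.2.2.2.2
  have hE : Cfsg.IsExtraspecial 2 ↥(Q.map Cen[z].subtype) :=
    FusionP3.GenExtra.isExtraspecial_congr (Q.equivMapOfInjective _ Cen[z].subtype_injective) X.hS.2.2.1
  have hbig : 16 ≤ Nat.card ↥(Q.map Cen[z].subtype) := by
    rw [Subgroup.card_map_of_injective Subtype.val_injective, X.hS.2.2.2.1]
    norm_num
  obtain ⟨h1, h2⟩ := LargeExtra.Quotient.setting_of_fitting z X.hS.1 (Q.map Cen[z].subtype)
    (by rw [X.hS.2.1]) hE (g := g) ⟨⟨_, hq⟩, hmem, rfl⟩ hne hbig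
  exact ⟨g, h2, h1, hE.1.1⟩

include X in
theorem b_norm : Subgroup.zpowers (b : G) ≤
    Subgroup.normalizer ((Q.map Cen[z].subtype : Subgroup G) : Set G) := by
  obtain ⟨a, s, -, -⟩ := X.setting
  rw [Subgroup.zpowers_le]
  refine Subgroup.mem_normalizer_fintype ?_
  intro q hq
  exact s.norm (b : G) (Subgroup.mem_centralizer_singleton_iff.mp b.2) q hq

theorem exists_move {q : X.HH} (hq : q ∈ X.Q0) (h1 : q ≠ 1) (h2 : q ≠ X.zh) :
    ∃ r ∈ X.Q0, r * q * r⁻¹ = q * X.zh := by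
  obtain ⟨a, s, -, hp⟩ := X.setting
  obtain ⟨r, hr, hrA, hre⟩ := LargeExtra.Quotient.exists_move_fixed s.es hp X.b_norm X.zpowers_odd
    (v := ((q : Cen[z]) : G)) ⟨(q : Cen[z]), hq, rfl⟩ (fun c hc => by
      obtain ⟨i, rfl⟩ := Subgroup.mem_zpowers_iff.mp hc
      exact (show Commute (b : G) ((q : Cen[z]) : G) from
        (congrArg Subtype.val (Subgroup.mem_centralizer_singleton_iff.mp q.2)).symm).zpow_left i)
    (fun h => h1 (Subtype.ext (Subtype.ext h))) (fun h => h2 (Subtype.ext (Subtype.ext h)))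
  obtain ⟨r', hr', rfl⟩ := hr
  exact ⟨⟨r', Subgroup.mem_centralizer_singleton_iff.mpr
    (Subtype.ext (hrA _ (Subgroup.mem_zpowers _)).eq.symm)⟩, hr', Subtype.ext (Subtype.ext hre)⟩

/-- A conjugate of `z` among the fixed elements is conjugate by an element centralising `b`. -/
theorem exists_conj_z {x : X.HH} (hx : x ∈ X.Q0) (hne : ((x : Cen[z]) : G) ≠ z)
    (hconj : IsConj z ((x : Cen[z]) : G)) :
    ∃ g : G, Commute g (b : G) ∧ g * z * g⁻¹ = ((x : Cen[z]) : G) := by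
  obtain ⟨a', ha'⟩ := isConj_iff.mp hconj
  obtain ⟨a, s0, -, hp⟩ := X.setting
  have s : LargeExtra.TwoConjugate.Setting (Q.map Cen[z].subtype) z a' :=
    ⟨s0.es, s0.cent, s0.norm, by rw [ha']; exact ⟨_, hx, rfl⟩, by rw [ha']; exact hne, s0.big⟩
  have hbx : Commute (b : G) ((x : Cen[z]) : G) :=
    (congrArg Subtype.val (Subgroup.mem_centralizer_singleton_iff.mp x.2)).symm
  have hbz : Commute (b : G) z := Subgroup.mem_centralizer_singleton_iff.mp b.2
  have hx1 : ((x : Cen[z]) : G) ≠ 1 := by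
    rw [← ha']
    exact fun h => s0.es.ne (conj_eq_one_iff.mp h)
  -- moving `x` inside `Q`
  obtain ⟨r, hr, hre⟩ := X.exists_move hx (fun h => hx1 (by rw [h]; rfl))
    (fun h => hne (by rw [h]; rfl))
  -- moving `z` inside the other subgroup
  have hes := LargeExtra.TwoConjugate.es' s
  have hp' := hp.map (MulAut.conj a').toMonoidHom
  have hnorm : Subgroup.zpowers (b : G) ≤ Subgroup.normalizer
      (((Q.map Cen[z].subtype).map (MulAut.conj a').toMonoidHom : Subgroup G) : Set G) := by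
    rw [Subgroup.zpowers_le]
    refine Subgroup.mem_normalizer_fintype ?_
    intro q hq
    exact LargeExtra.TwoConjugate.norm' s (b : G) (by rw [ha']; exact hbx) q hq
  obtain ⟨q, hq, hqA, hqe⟩ := LargeExtra.Quotient.exists_move_fixed hes hp' hnorm X.zpowers_odd
    (v := z) (LargeExtra.TwoConjugate.z_mem s) (fun c hc => by
      obtain ⟨i, rfl⟩ := Subgroup.mem_zpowers_iff.mp hc
      exact hbz.zpow_left i)
    s0.es.ne (by rw [ha']; exact Ne.symm hne)
  rw [ha'] at hqe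
  have hrb : Commute ((r : Cen[z]) : G) (b : G) :=
    congrArg Subtype.val (Subgroup.mem_centralizer_singleton_iff.mp r.2)
  refine ⟨((r : Cen[z]) : G) * q, hrb.mul_left (hqA _ (Subgroup.mem_zpowers _)).symm, ?_⟩
  have hre' : ((r : Cen[z]) : G) * ((x : Cen[z]) : G) * ((r : Cen[z]) : G)⁻¹ =
      ((x : Cen[z]) : G) * z := congrArg (fun y : X.HH => ((y : Cen[z]) : G)) hre
  have hrz : ((r : Cen[z]) : G) * z * ((r : Cen[z]) : G)⁻¹ = z :=
    mul_inv_eq_iff_eq_mul.mpr (Subgroup.mem_centralizer_singleton_iff.mp (r : Cen[z]).2)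
  have hxz : Commute ((x : Cen[z]) : G) z := Subgroup.mem_centralizer_singleton_iff.mp (x : Cen[z]).2
  calc ((r : Cen[z]) : G) * q * z * (((r : Cen[z]) : G) * q)⁻¹
      = ((r : Cen[z]) : G) * (q * z * q⁻¹) * ((r : Cen[z]) : G)⁻¹ := by group
    _ = (((r : Cen[z]) : G) * z * ((r : Cen[z]) : G)⁻¹) *
          (((r : Cen[z]) : G) * ((x : Cen[z]) : G) * ((r : Cen[z]) : G)⁻¹) := by rw [hqe]; group
    _ = z * (((x : Cen[z]) : G) * z) := by rw [hrz, hre']
    _ = ((x : Cen[z]) : G) := by rw [hxz.eq, ← mul_assoc, s0.es.sq, one_mul]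

/-- The conjugates of `z` among the fixed elements are those over the fourteen classes. -/
theorem isConj_iff_W14 {x : X.HH} (hx : x ∈ X.Q0) :
    (IsConj z ((x : Cen[z]) : G) ∧ ((x : Cen[z]) : G) ≠ z) ↔ isW14 (X.coord x) := by
  have hW : isW14 (X.coord x) ↔
      ∃ v : leechLattice, sqNorm (vec v) = 64 ∧ Eqv v (val (lift (X.coord x))) := by
    rw [← isW14_iff, red_lift]
  rw [hW]
  have := MonsterCore.conj_iff X.hS X.hψ (⟨(x : Cen[z]), hx⟩ : Q)
  rw [this, ← X.coord_spec hx]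
  exact exists_congr fun v => and_congr_right fun _ => MonsterCore.psi_eq_iff X.hψ _ _

end Ctx

end Cfsg.Agent.Lib.MonsterHeld52
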