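import Cfsg.Agent.Lib.LeechMod2.MonsterCross

/-!
Monster type: every sign change of the standard frame lifts to an involution of `C(z)`, and so does
every conjugate of one.

Owner: helper52.
-/

set_option autoImplicit false

namespace Cfsg.Agent.Lib.MonsterHeld52.InvolLift

open Cfsg Cfsg.Agent.Lib.Leech
open Cfsg.Agent.Lib.LeechMod2

local notation "Cen[" z "]" => Subgroup.centralizer ({z} : Set _)

variable {G : Type*} [Group G] [Finite G] {z : G} {Q : Subgroup (Subgroup.centralizer ({z} : Set G))}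
  [Q.Normal] {e : Cen[z] ⧸ Q ≃* Spor.Co1} {ψ : leechLattice → Q ⧸ Subgroup.center Q}

omit [Finite G] in
theorem sq_mem (hψ : IsLeechModTwoIso Q e ψ) (x : Q) : x * x ∈ Subgroup.center Q := by
  obtain ⟨v, hv⟩ := hψ.2.1 (QuotientGroup.mk x)
  rw [← QuotientGroup.eq_one_iff, QuotientGroup.mk_mul, ← hv, ← hψ.1, hψ.2.2.1]
  exact ⟨v, rfl⟩

omit [Finite G] in
theorem comm_mem (hψ : IsLeechModTwoIso Q e ψ) (x w : Q) :
    x * w * x⁻¹ * w⁻¹ ∈ Subgroup.center Q := by
  obtain ⟨v, hv⟩ := hψ.2.1 (QuotientGroup.mk x)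
  obtain ⟨u, hu⟩ := hψ.2.1 (QuotientGroup.mk w)
  rw [← QuotientGroup.eq_one_iff, QuotientGroup.mk_mul, QuotientGroup.mk_mul, QuotientGroup.mk_mul,
    QuotientGroup.mk_inv, QuotientGroup.mk_inv]
  have h : (QuotientGroup.mk x : Q ⧸ Subgroup.center Q) * QuotientGroup.mk w =
      QuotientGroup.mk w * QuotientGroup.mk x := by rw [← hv, ← hu, ← hψ.1, ← hψ.1, add_comm]
  rw [h, mul_inv_cancel_right, mul_inv_cancel]

theorem exists_diag (hS : IsExtraspecialCentralizerSetting z Q 12) (hψ : IsLeechModTwoIso Q e ψ)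
    {q : Q} (hq : ψ (eightE none) = QuotientGroup.mk q) {a : G}
    (ha : a * z * a⁻¹ = ((q : Cen[z]) : G)) {d : Co0} (hd : d ∈ Frame.diag)
    (hne : Frame.bar d ≠ 1) :
    ∃ u : Cen[z], u * u = 1 ∧ e (QuotientGroup.mk u) = Frame.bar d := by
  obtain ⟨h13, himg⟩ := MonsterCross.main hS hψ hq ha
  obtain ⟨xd, hxd⟩ := e.surjective (Frame.bar d)
  obtain ⟨r, hr, hre⟩ : xd ∈ (((Q.map Cen[z].subtype).map (MulAut.conj a).toMonoidHom ⊓
      Cen[z]).subgroupOf Cen[z]).map (QuotientGroup.mk' Q) := by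
    rw [himg]
    exact ⟨d, hd, hxd.symm⟩
  have her : e (QuotientGroup.mk r) = Frame.bar d := by
    rw [← hxd]
    exact congrArg e hre
  obtain ⟨y0, hy0, hya⟩ : ∃ y0 : Cen[z], y0 ∈ Q ∧ a * (y0 : G) * a⁻¹ = (r : G) := by
    obtain ⟨⟨_, ⟨y0, hy0, rfl⟩, hye⟩, -⟩ := hr
    exact ⟨y0, hy0, hye⟩
  let y : Q := ⟨y0, hy0⟩
  let φ : Q →* G := (MulAut.conj a).toMonoidHom.comp (Cen[z].subtype.comp Q.subtype)
  have hφ : Function.Injective φ := fun x w h => by
    have h' := (MulAut.conj a).injective h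
    exact Subtype.ext (Subtype.ext h')
  have hφy : φ y = (r : G) := hya
  have hφz : φ (MonsterCore.zQ hS) = ((q : Cen[z]) : G) := ha
  have hqz : ((q : Cen[z]) : G) ≠ z := fun h => MonsterCross.notMem_center hψ hq
    ((Subtype.ext (Subtype.ext h) : q = MonsterCore.zQ hS) ▸ MonsterCore.zQ_center hS)
  have hz1 : z ≠ 1 := fun h => by
    have h2 := hS.1
    rw [h, orderOf_one] at h2
    norm_num at h2
  -- a central element of `Q` with image among the central elements of `Q` is trivial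
  have htriv : ∀ c : Q, c ∈ Subgroup.center Q →
      (∃ c' : Q, c' ∈ Subgroup.center Q ∧ φ c = ((c' : Cen[z]) : G)) → c = 1 := by
    intro c hc ⟨c', hc', hcc⟩
    rcases MonsterCore.center_cases hS hc with h | h
    · exact h
    exfalso
    rw [h, hφz] at hcc
    rcases MonsterCore.center_cases hS hc' with h' | h' <;> rw [h'] at hcc
    · have h0 : φ (MonsterCore.zQ hS) = φ 1 := by
        rw [hφz, map_one, hcc]
        rfl
      exact hz1 (congrArg (fun x : Q => ((x : Cen[z]) : G)) (hφ h0))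
    · exact hqz hcc
  obtain ⟨A, hA⟩ : ∃ A, A = (Q.map Cen[z].subtype).comap φ := ⟨_, rfl⟩
  have hlift : ∀ x ∈ A, ∃ x' : Q, ((x' : Cen[z]) : G) = φ x := by
    intro x hx
    rw [hA] at hx
    obtain ⟨w, hw, hwe⟩ := hx
    exact ⟨⟨w, hw⟩, hwe⟩
  have hAab : ∀ x ∈ A, ∀ w ∈ A, Commute x w := by
    intro x hx w hw
    obtain ⟨x', hx'⟩ := hlift x hx
    obtain ⟨w', hw'⟩ := hlift w hw
    have h := htriv _ (comm_mem hψ x w) ⟨_, comm_mem hψ x' w', by
      simp only [map_mul, map_inv, ← hx', ← hw', Subgroup.coe_mul, Subgroup.coe_inv]⟩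
    rwa [mul_inv_eq_one, mul_inv_eq_iff_eq_mul] at h
  have hAsq : ∀ x ∈ A, x * x = 1 := fun x hx => by
    obtain ⟨x', hx'⟩ := hlift x hx
    exact htriv _ (sq_mem hψ x) ⟨_, sq_mem hψ x', by simp only [map_mul, ← hx', Subgroup.coe_mul]⟩
  rcases MonsterCore.center_cases hS (sq_mem hψ y) with hy2 | hy2
  · refine ⟨r, Subtype.ext ?_, her⟩
    show (r : G) * (r : G) = 1
    rw [← hφy, ← map_mul, hy2, map_one]
  -- an element of the intersection moved by `y`
  have hcard : Nat.card A = 2 ^ 13 := by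
    rw [← h13, ← Subgroup.card_map_of_injective (f := φ) (K := A) hφ]
    refine Nat.card_congr (Equiv.setCongr (congrArg (fun S : Subgroup G => (S : Set G)) ?_))
    ext g
    constructor
    · rintro ⟨x, hx, rfl⟩
      rw [hA] at hx
      exact ⟨hx, _, ⟨_, x.2, rfl⟩, rfl⟩
    · rintro ⟨hg, _, ⟨w, hw, rfl⟩, rfl⟩
      exact ⟨⟨w, hw⟩, hA ▸ hg, rfl⟩
  have hyA : y ∉ A := fun h => by
    obtain ⟨y', hy'⟩ := hlift y h
    refine hne ?_
    rw [← her, show r = (y' : Cen[z]) from Subtype.ext (hφy.symm.trans hy'.symm),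
      (QuotientGroup.eq_one_iff _).mpr y'.2, map_one]
  obtain ⟨w, hw, hwy⟩ : ∃ w ∈ A, ¬ Commute y w := by
    by_contra hcon
    push Not at hcon
    obtain ⟨A', hA'⟩ : ∃ A', A' = Subgroup.closure ((A : Set Q) ∪ {y}) := ⟨_, rfl⟩
    have hab : ∀ g ∈ A', ∀ h ∈ A', Commute g h := by
      have hcomm : ∀ g ∈ (A : Set Q) ∪ {y}, ∀ h ∈ (A : Set Q) ∪ {y}, Commute g h := by
        rintro g (hg | hg) h (hh | hh)
        · exact hAab g hg h hh
        · exact Set.mem_singleton_iff.mp hh ▸ (hcon g hg).symm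
        · exact Set.mem_singleton_iff.mp hg ▸ hcon h hh
        · rw [Set.mem_singleton_iff.mp hg, Set.mem_singleton_iff.mp hh]
      intro g hg h hh
      haveI := Subgroup.isMulCommutative_closure (k := (A : Set Q) ∪ {y}) fun g hg h hh =>
        (hcomm g hg h hh).eq
      rw [hA'] at hg hh
      exact congrArg Subtype.val (mul_comm'
        (⟨g, hg⟩ : Subgroup.closure ((A : Set Q) ∪ {y})) ⟨h, hh⟩)
    have hlt : A < A' := by
      refine lt_of_le_of_ne (fun x hx => hA' ▸ Subgroup.subset_closure (Or.inl hx)) fun e1 => hyA ?_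
      rw [e1, hA']
      exact Subgroup.subset_closure (Or.inr rfl)
    have hbound := MonsterCore.card_sq_le hS.2.2.1.1.2.2 hS.2.2.1.2 A' hab
    rw [hS.2.2.2.1] at hbound
    have hdvd := Subgroup.card_dvd_of_le hlt.le
    rw [hcard] at hdvd
    obtain ⟨k, hk⟩ := hdvd
    have hk2 : 2 ≤ k := by
      by_contra hk'
      have : k = 0 ∨ k = 1 := by omega
      rcases this with rfl | rfl
      · rw [mul_zero] at hk
        exact Nat.card_pos.ne' hk
      · exact hlt.ne (Subgroup.eq_of_le_of_card_ge hlt.le (by rw [hcard, hk, mul_one]))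
    rw [hk] at hbound
    have : 2 ^ 13 * 2 * (2 ^ 13 * 2) ≤ 2 ^ 13 * k * (2 ^ 13 * k) :=
      Nat.mul_le_mul (Nat.mul_le_mul_left _ hk2) (Nat.mul_le_mul_left _ hk2)
    norm_num at hbound this
    omega
  have hk : y * w * y⁻¹ * w⁻¹ = MonsterCore.zQ hS := by
    rcases MonsterCore.center_cases hS (comm_mem hψ y w) with h | h
    · rw [mul_inv_eq_one, mul_inv_eq_iff_eq_mul] at h
      exact absurd h hwy
    · exact h
  have hyw : (y * w) * (y * w) = 1 := by
    have hw2 := hAsq w hw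
    have hz2 : MonsterCore.zQ hS * MonsterCore.zQ hS = 1 := by
      refine Subtype.ext (Subtype.ext ?_)
      show z * z = 1
      rw [← pow_two, ← hS.1]
      exact pow_orderOf_eq_one z
    have hwinv : w⁻¹ = w := inv_eq_of_mul_eq_one_right hw2
    have hc := Subgroup.mem_center_iff.mp (MonsterCore.zQ_center hS)
    calc (y * w) * (y * w) = (y * w * y⁻¹ * w⁻¹) * w * (y * y) * w := by group
      _ = MonsterCore.zQ hS * w * MonsterCore.zQ hS * w := by rw [hk, hy2]
      _ = MonsterCore.zQ hS * MonsterCore.zQ hS * (w * w) := by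
        rw [mul_assoc _ w (MonsterCore.zQ hS), hc w, ← mul_assoc, mul_assoc]
      _ = 1 := by rw [hz2, hw2, one_mul]
  obtain ⟨w', hw'⟩ := hlift w hw
  refine ⟨r * (w' : Cen[z]), Subtype.ext ?_, ?_⟩
  · show (r : G) * ((w' : Cen[z]) : G) * ((r : G) * ((w' : Cen[z]) : G)) = 1
    rw [hw', ← hφy, ← map_mul, ← map_mul, hyw, map_one]
  · rw [QuotientGroup.mk_mul, map_mul, (QuotientGroup.eq_one_iff _).mpr w'.2, map_one, mul_one, her]

/-- Every conjugate of a sign change lifts to an involution. -/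
theorem exists_invol (hS : IsExtraspecialCentralizerSetting z Q 12) (hψ : IsLeechModTwoIso Q e ψ)
    {d : Co0} (hd : d ∈ Frame.diag) (hne : Frame.bar d ≠ 1) (γ : Co0) :
    ∃ u : Cen[z], u * u = 1 ∧ e (QuotientGroup.mk u) = Frame.bar (γ * d * γ⁻¹) := by
  obtain ⟨q, hq⟩ := QuotientGroup.mk_surjective (ψ (eightE none))
  obtain ⟨hconj, -⟩ := (MonsterCore.conj_iff hS hψ q).mpr ⟨eightE none, sqNorm_eightE none, hq.symm⟩
  obtain ⟨a, ha⟩ := isConj_iff.mp hconj
  obtain ⟨u, hu, hue⟩ := exists_diag hS hψ hq.symm ha hd hne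
  obtain ⟨x, hx⟩ := e.surjective (Frame.bar γ)
  obtain ⟨k, rfl⟩ := QuotientGroup.mk_surjective x
  refine ⟨k * u * k⁻¹, by rw [conj_mul, hu, mul_one, mul_inv_cancel], ?_⟩
  rw [QuotientGroup.mk_mul, QuotientGroup.mk_mul, QuotientGroup.mk_inv, map_mul, map_mul, map_inv,
    hx, hue, map_mul, map_mul, map_inv]

end Cfsg.Agent.Lib.MonsterHeld52.InvolLift
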