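import Cfsg.Agent.Lib.MonsterHeld52.Main
import Cfsg.Agent.Lib.LeechMod2.MonsterCross

/-!
Monster type: a Sylow 7-subgroup of the centraliser of two commuting conjugates lies over the
permutation of order 7, after retwisting the identification.

Owner: helper52.
-/

set_option autoImplicit false
set_option maxRecDepth 20000

namespace Cfsg.Agent.Lib.MonsterHeld52

open Cfsg Cfsg.Agent.Lib.Leech
open Cfsg.Agent.Lib.LeechMod2

local notation "Cen[" z "]" => Subgroup.centralizer ({z} : Set _)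

variable {G : Type*} [Group G] [Finite G] {z : G} {Q : Subgroup (Subgroup.centralizer ({z} : Set G))}
  [Q.Normal] {e : Cen[z] ⧸ Q ≃* Spor.Co1} {ψ : leechLattice → Q ⧸ Subgroup.center Q}

omit [Finite G] in
/-- Retwisting an identification by a lattice automorphism. -/
theorem retwist (hψ : IsLeechModTwoIso Q e ψ) (γ : Co0) :
    IsLeechModTwoIso Q (e.trans (MulAut.conj (Frame.bar γ)⁻¹)) fun w => ψ (γ • w) := by
  refine ⟨fun a b => by simp only [smul_add', hψ.1], ?_, ?_, ?_⟩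
  · intro y
    obtain ⟨w, hw⟩ := hψ.2.1 y
    exact ⟨γ⁻¹ • w, by simp [hw]⟩
  · intro w
    rw [hψ.2.2.1]
    constructor
    · rintro ⟨x, hx⟩
      refine ⟨γ⁻¹ • x, ?_⟩
      rw [← smul_add', ← hx, inv_smul_smul]
    · rintro ⟨x, rfl⟩
      exact ⟨γ • x, smul_add' γ x x⟩
  · intro h g hg w q hq
    have h1 : (QuotientGroup.mk (γ * g * γ⁻¹) : Spor.Co1) = e (QuotientGroup.mk h) := by
      show Frame.bar (γ * g * γ⁻¹) = _
      have h2 : Frame.bar g = (Frame.bar γ)⁻¹ * e (QuotientGroup.mk h) * ((Frame.bar γ)⁻¹)⁻¹ := hg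
      rw [map_mul, map_mul, map_inv, h2]
      group
    have h3 := hψ.2.2.2 h _ h1 (γ • w) q hq
    rw [← h3]
    show ψ (γ • g • w) = _
    rw [mul_smul, mul_smul, inv_smul_smul]

theorem card_crossBar : Nat.card (crossGroup.map Frame.bar) = 501397585920 := by
  have e1 : (Subgroup.center Co0).relIndex crossGroup = Nat.card (crossGroup.map Frame.bar) := by
    rw [← Subgroup.relIndex_ker, Frame.ker_bar]
  have e2 := Subgroup.relIndex_mul_relIndex ⊥ (Subgroup.center Co0) crossGroup bot_le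
    (Frame.center_le_diag.trans Frame.diag_le_cross)
  rw [Subgroup.relIndex_bot_left, Subgroup.relIndex_bot_left, card_crossGroup, Leech.card_center,
    e1] at e2
  omega

theorem fact_seven_crossBar : (501397585920 : ℕ).factorization 7 = 1 := by
  rw [show (501397585920 : ℕ) = 7 * 71628226560 by norm_num,
    Nat.factorization_mul (by norm_num) (by norm_num), Finsupp.add_apply,
    Nat.Prime.factorization_self (by norm_num), Nat.factorization_eq_zero_of_not_dvd (by norm_num)]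

/-- Reduction to the standard data. -/
theorem exists_ctx (hS : IsExtraspecialCentralizerSetting z Q 12) (hψ : IsLeechModTwoIso Q e ψ)
    {q : Q} (hq : ψ (eightE none) = QuotientGroup.mk q) {B : Subgroup G}
    (hB : B ≤ Subgroup.centralizer ({z, ((q : Cen[z]) : G)} : Set G))
    (hBp : Nat.card B = 7 ^ (Nat.card ↥(Subgroup.centralizer
      ({z, ((q : Cen[z]) : G)} : Set G))).factorization 7) :
    ∃ (e' : Cen[z] ⧸ Q ≃* Spor.Co1) (ψ' : leechLattice → Q ⧸ Subgroup.center Q) (b : Cen[z]),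
      Ctx z Q e' ψ' b ∧ B = Subgroup.zpowers (b : G) := by
  classical
  haveI : Fact (Nat.Prime 7) := ⟨by norm_num⟩
  haveI : Fact (Nat.Prime 2) := ⟨Nat.prime_two⟩
  obtain ⟨C2, hC2⟩ : ∃ C2, C2 = Subgroup.centralizer ({z, ((q : Cen[z]) : G)} : Set G) := ⟨_, rfl⟩
  rw [← hC2] at hB hBp
  have hC2z : C2 ≤ Cen[z] := hC2 ▸ Subgroup.centralizer_le (by simp)
  let f : C2 →* Spor.Co1 :=
    (e.toMonoidHom.comp (QuotientGroup.mk' Q)).comp (Subgroup.inclusion hC2z)
  have hrange : f.range = crossGroup.map Frame.bar := by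
    refine le_antisymm ?_ ?_
    · rintro _ ⟨x, rfl⟩
      obtain ⟨g, hg⟩ := Frame.bar_surjective (e (QuotientGroup.mk (Subgroup.inclusion hC2z x)))
      have hcomm : (x : G) * ((q : Cen[z]) : G) = ((q : Cen[z]) : G) * (x : G) := by
        have h := x.2
        simp only [hC2, Subgroup.mem_centralizer_iff] at h
        exact (h _ (Or.inr rfl)).symm
      exact ⟨g, MonsterCross.cross_of_commute hψ hq (h := Subgroup.inclusion hC2z x) hcomm hg, hg⟩
    · rintro _ ⟨g, hg, rfl⟩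
      obtain ⟨k, hk, hkq⟩ := MonsterCross.lift_cross hS hψ hq hg
      have hkm : (k : G) ∈ C2 := by
        rw [hC2, Subgroup.mem_centralizer_iff]
        rintro y (rfl | rfl)
        · exact (Subgroup.mem_centralizer_singleton_iff.mp k.2).symm
        · exact hkq.symm
      exact ⟨⟨k, hkm⟩, hk⟩
  have hker : ∀ x : C2, f x = 1 → Subgroup.inclusion hC2z x ∈ Q := fun x h =>
    (QuotientGroup.eq_one_iff _).mp (e.injective (h.trans (map_one e).symm))
  have hkp : IsPGroup 2 f.ker := by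
    refine hS.2.2.1.1.1.of_injective
      (((Subgroup.inclusion hC2z).comp f.ker.subtype).codRestrict Q fun x => hker _ x.2) ?_
    intro x y h
    exact Subtype.ext (Subgroup.inclusion_injective hC2z (congrArg Subtype.val h))
  have hcard : (Nat.card C2).factorization 7 = 1 := by
    have h := Subgroup.card_mul_index f.ker
    rw [Subgroup.index_ker, hrange, card_crossBar] at h
    obtain ⟨n, hn⟩ := IsPGroup.iff_card.mp hkp
    rw [← h, hn, Nat.factorization_mul (by positivity) (by norm_num), Finsupp.add_apply,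
      fact_seven_crossBar, Nat.factorization_eq_zero_of_not_dvd (fun hd => by
        have := (Nat.prime_dvd_prime_iff_eq (by norm_num) Nat.prime_two).mp
          ((by norm_num : Nat.Prime 7).dvd_of_dvd_pow hd)
        omega)]
  rw [hcard, pow_one] at hBp
  obtain ⟨⟨b0, hb0B⟩, hb0⟩ := exists_prime_orderOf_dvd_card' (G := B) 7 (by rw [hBp])
  rw [Subgroup.orderOf_mk] at hb0
  have hBz : B = Subgroup.zpowers b0 :=
    (Subgroup.eq_of_le_of_card_ge (Subgroup.zpowers_le.mpr hb0B)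
      (by rw [hBp, Nat.card_zpowers, hb0])).symm
  let b : Cen[z] := ⟨b0, hC2z (hB hb0B)⟩
  have hb7 : b ^ 7 = 1 := Subtype.ext (by
    rw [SubgroupClass.coe_pow, OneMemClass.coe_one]
    exact hb0 ▸ pow_orderOf_eq_one b0)
  obtain ⟨x, hxdef⟩ : ∃ x : Spor.Co1, x = e (QuotientGroup.mk b) := ⟨_, rfl⟩
  have hx7 : orderOf x = 7 := by
    refine orderOf_eq_prime (by rw [hxdef, ← map_pow, ← QuotientGroup.mk_pow, hb7]; exact map_one e)
      fun h1 => ?_
    have hmem : b ∈ Q := (QuotientGroup.eq_one_iff _).mp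
      (e.injective ((hxdef ▸ h1).trans (map_one e).symm))
    have h2 := pow_card_eq_one' (x := (⟨b, hmem⟩ : Q))
    rw [hS.2.2.2.1] at h2
    have h3 : b ^ (2 ^ (2 * 12 + 1)) = 1 := by
      simpa only [SubgroupClass.coe_pow, OneMemClass.coe_one] using congrArg Subtype.val h2
    have h4 := pow_gcd_eq_one.mpr ⟨hb7, h3⟩
    rw [show Nat.gcd 7 (2 ^ (2 * 12 + 1)) = 1 by norm_num, pow_one] at h4
    have h5 : b0 = 1 := congrArg Subtype.val h4
    rw [h5, orderOf_one] at hb0
    omega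
  have hxX : x ∈ crossGroup.map Frame.bar := by
    rw [← hrange, hxdef]
    exact ⟨⟨b0, hB hb0B⟩, rfl⟩
  have hbX : β0 ∈ crossGroup.map Frame.bar := ⟨π0, Frame.permHom_mem_cross σ0, rfl⟩
  haveI : Finite Spor.Co1 := Finite.of_surjective _ Frame.bar_surjective
  -- Sylow inside the image
  have hsyl : ∀ y : Spor.Co1, y ∈ crossGroup.map Frame.bar → orderOf y = 7 →
      ∃ P : Sylow 7 (crossGroup.map Frame.bar),
        (P : Subgroup (crossGroup.map Frame.bar)).map (crossGroup.map Frame.bar).subtype =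
          Subgroup.zpowers y := by
    intro y hy h7
    refine ⟨Sylow.ofCard (Subgroup.zpowers (⟨y, hy⟩ : crossGroup.map Frame.bar)) ?_, ?_⟩
    · rw [Nat.card_zpowers, Subgroup.orderOf_mk, h7, card_crossBar, fact_seven_crossBar, pow_one]
    · rw [Sylow.coe_ofCard, MonoidHom.map_zpowers]
      rfl
  obtain ⟨P, hP⟩ := hsyl x hxX hx7
  obtain ⟨R, hR⟩ := hsyl β0 hbX orderOf_β0
  obtain ⟨c, hc⟩ := MulAction.exists_smul_eq (crossGroup.map Frame.bar) P R
  have hmem : β0 ∈ (Subgroup.zpowers x).map (MulAut.conj (c : Spor.Co1)).toMonoidHom := by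
    have h1 : β0 ∈ Subgroup.zpowers β0 := Subgroup.mem_zpowers _
    rw [← hR, ← hc, Sylow.coe_subgroup_smul] at h1
    obtain ⟨_, ⟨w, hw, rfl⟩, hwe⟩ := h1
    refine ⟨(w : Spor.Co1), ?_, ?_⟩
    · rw [← hP]; exact ⟨w, hw, rfl⟩
    · rw [← hwe]; rfl
  obtain ⟨_, ⟨i, rfl⟩, hi⟩ := hmem
  obtain ⟨γ, -, hγ⟩ : (c : Spor.Co1) ∈ crossGroup.map Frame.bar := c.2
  refine ⟨e.trans (MulAut.conj (Frame.bar γ⁻¹)⁻¹), fun w => ψ (γ⁻¹ • w), b ^ i,
    ⟨hS, retwist hψ γ⁻¹, ?_, ?_⟩, ?_⟩
  · rw [← zpow_natCast, ← zpow_mul, mul_comm, zpow_mul, zpow_natCast, hb7, one_zpow]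
  · show MulAut.conj (Frame.bar γ⁻¹)⁻¹ (e (QuotientGroup.mk (b ^ i))) = β0
    rw [map_inv Frame.bar, inv_inv, hγ, QuotientGroup.mk_zpow, map_zpow e, ← hxdef, ← hi]
    rfl
  · rw [hBz, SubgroupClass.coe_zpow]
    show Subgroup.zpowers b0 = Subgroup.zpowers (b0 ^ i)
    refine (Subgroup.eq_of_le_of_card_ge (Subgroup.zpowers_le.mpr
      (zpow_mem (Subgroup.mem_zpowers _) i)) ?_).symm
    have hne : b0 ^ i ≠ 1 := by
      intro h1
      have h2 : b ^ i = 1 := Subtype.ext (by rw [SubgroupClass.coe_zpow]; exact h1)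
      refine β0_ne_one ?_
      rw [← hi]
      show MulAut.conj (c : Spor.Co1) (x ^ i) = 1
      rw [hxdef, ← map_zpow, ← QuotientGroup.mk_zpow, h2, QuotientGroup.mk_one, map_one, map_one]
    rw [Nat.card_zpowers, Nat.card_zpowers, hb0]
    refine le_of_eq (orderOf_eq_prime ?_ hne).symm
    rw [← zpow_natCast, ← zpow_mul, mul_comm, zpow_mul, zpow_natCast, ← hb0, pow_orderOf_eq_one,
      one_zpow]

/-- The centraliser of the Sylow subgroup modulo that subgroup is of Held type. -/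
theorem held_of_monster (hM : IsOfMonsterType z Q) (s : G)
    (hsQ : ∃ hsc : s ∈ Cen[z], (⟨s, hsc⟩ : Cen[z]) ∈ Q) (hs : IsConj z s) (hs1 : s ≠ z)
    (B : Subgroup G) (hB : B ≤ Subgroup.centralizer ({z, s} : Set G))
    (hBp : Nat.card B = 7 ^ (Nat.card ↥(Subgroup.centralizer ({z, s} : Set G))).factorization 7)
    [hn : (B.subgroupOf (Subgroup.centralizer (B : Set G))).Normal] :
    IsOfHeldType (↥(Subgroup.centralizer (B : Set G)) ⧸
      B.subgroupOf (Subgroup.centralizer (B : Set G))) := by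
  obtain ⟨hS, e, ψ, hψ⟩ := hM
  obtain ⟨hsc, hsQ⟩ := hsQ
  let q : Q := ⟨⟨s, hsc⟩, hsQ⟩
  obtain ⟨v, hv, hvq⟩ := (MonsterCore.conj_iff hS hψ q).mp ⟨hs, hs1⟩
  obtain ⟨e', ψ', hψ', hs'⟩ := MonsterCross.exists_standard hψ hv
  obtain ⟨e'', ψ'', b, X, hBb⟩ := exists_ctx hS hψ' (q := q) (hs'.trans hvq) hB hBp
  exact X.held hBb

end Cfsg.Agent.Lib.MonsterHeld52
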