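import Cfsg.Agent.Lib.MonsterHeld52.Core
import Cfsg.Agent.Lib.MonsterHeld52.Setup
import Cfsg.Agent.Lib.MonsterHeld52.InvolLift

/-!
Monster type: the full automiser of the Sylow 7-subgroup, and an involution inverting it that
induces an outer automorphism of the layer of its centraliser.

Owner: helper52.
-/

set_option autoImplicit false
set_option maxRecDepth 20000

namespace Cfsg.Agent.Lib.MonsterHeld52

open Cfsg Cfsg.Agent.Lib.Leech Cfsg.Agent.Lib.Golay Cfsg.Agent.Lib.Co3Model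
open Cfsg.Agent.Lib.LeechMod2

local notation "Cen[" z "]" => Subgroup.centralizer ({z} : Set _)

/-- A word carrying a sign change to an automorphism inverting the permutation. -/
def wY : List Op :=
  [.sign 145176, .sext 1893557043256893003329, .sign 36294, .sext 704060161209296594448]

/-- Its inverse. -/
def wY' : List Op :=
  [.sext 704060161209296594448, .sign 36294, .sext 1893557043256893003329, .sign 145176]

/-- The sign change. -/
def cY : ℕ := 5751449

/-- A permutation squaring the permutation of order 7. -/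
def wN : List Op :=
  [.perm 23738511095580568416355184752516258 92822950828307573200134696468643959]

/-- The square of the permutation. -/
def opS : Op := .perm (S5604.powCode 2) (S5604.powCode 5)

/-- The checks. -/
def autOK : Bool :=
  normW opR' (wY ++ [.sign cY] ++ wY') && normW opS wN && inCode cY && wY.all Op.ok &&
    wY'.all Op.ok &&
    ((List.range 24).all fun k => decide (appWord (wY ++ wY') (axL k) = axL k)) &&
    (List.range 24).any fun i => cY.testBit i && !cY.testBit 23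

theorem autOK_true : autOK = true := by decide +kernel

theorem elt_opS : opS.elt = π0 ^ 2 := by
  have h := autOK_true
  simp only [autOK, normW, Bool.and_eq_true] at h
  have ho : opS.ok = true := h.1.1.1.1.1.2.1.2
  simp only [opS, Op.elt, dif_pos (show (Op.perm (S5604.powCode 2) (S5604.powCode 5)).ok = true from ho)]
  rw [π0, ← map_pow]
  refine congrArg permHom (Subtype.ext ?_)
  show gperm (S5604.powCode 2) = _
  rw [(S5604.gperm_powCode 2).2, SubgroupClass.coe_pow]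
  rfl

theorem exists_inverting : ∃ d ∈ Frame.diag, Frame.bar d ≠ 1 ∧
    ∃ γ : Co0, γ * d * γ⁻¹ * π0 = π0⁻¹ * (γ * d * γ⁻¹) := by
  have h := autOK_true
  simp only [autOK, Bool.and_eq_true, List.all_eq_true, List.mem_range, decide_eq_true_eq,
    List.any_eq_true, Bool.not_eq_true'] at h
  obtain ⟨⟨⟨⟨⟨⟨hY, -⟩, hc⟩, hw⟩, hw'⟩, hinv⟩, i, hi, hci, hc23⟩ := h
  refine ⟨Leech.flip (setOfMask cY) (Co3Model.isCode_setOfMask hc), Frame.flip_mem_diag _ _, ?_,
    wordElt wY, ?_⟩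
  · intro hb
    have hi' : pt i ∈ setOfMask cY := by rw [mem_setOfMask, idx_pt hi]; exact hci
    have h23 : pt 23 ∉ setOfMask cY := by
      rw [mem_setOfMask, idx_pt (by norm_num : 23 < 24), hc23]
      simp
    rcases center_co0_eq (Frame.bar_eq_one.mp hb) with h1 | h1
    · have h2 := congrArg (fun g : Co0 => vec (g • eightE (pt i)) (pt i)) h1
      simp only [one_smul, flip_smul, hi', if_true] at h2
      simp [eightE, vec] at h2
    · have h2 := congrArg (fun g : Co0 => vec (g • eightE (pt 23)) (pt 23)) h1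
      simp only [negOne_smul, flip_smul, h23, if_false] at h2
      simp [eightE, vec] at h2
  · have hinv' : wordElt wY * wordElt wY' = 1 := by
      rw [← wordElt_append]
      refine co0_ext fun q => lv_injective ?_
      rw [lv_word (List.all_eq_true.mpr fun o ho => (List.mem_append.mp ho).elim (hw o) (hw' o)),
        one_smul, lv_eightE]
      exact hinv _ (idx_lt q)
    have hX : wordElt (wY ++ [.sign cY] ++ wY') = wordElt wY *
        Leech.flip (setOfMask cY) (Co3Model.isCode_setOfMask hc) * (wordElt wY)⁻¹ := by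
      rw [wordElt_append, wordElt_append, inv_eq_of_mul_eq_one_right hinv']
      simp [wordElt, Op.elt, dif_pos hc]
    rw [← hX, of_normW hY, elt_opR']

theorem wN_spec : wordElt wN * π0 = π0 ^ 2 * wordElt wN := by
  have h := autOK_true
  simp only [autOK, Bool.and_eq_true] at h
  rw [of_normW h.1.1.1.1.1.2, elt_opS]

theorem delta_spec : wordElt wD * π0 = π0⁻¹ * wordElt wD ∧
    ∃ S, wordElt wD • val (minP 6) = val S ∧ red S = vecC 32 := by
  have hok := words_ok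
  simp only [Bool.and_eq_true, List.all_eq_true] at hok
  obtain ⟨-, hD⟩ := hok
  have hdok : wD.all Op.ok = true := by
    simp only [normW, Bool.and_eq_true] at hD
    exact hD.1.1
  have hdn : wordElt wD * π0 = π0⁻¹ * wordElt wD := by rw [of_normW hD, elt_opR']
  refine ⟨hdn, ?_⟩
  have hδfix : π0 • (wordElt wD • val (minP 6)) = wordElt wD • val (minP 6) := by
    have h1 : π0 * wordElt wD = wordElt wD * π0⁻¹ := by
      calc π0 * wordElt wD = π0 * (wordElt wD * π0) * π0⁻¹ := by group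
        _ = π0 * (π0⁻¹ * wordElt wD) * π0⁻¹ := by rw [hdn]
        _ = _ := by group
    rw [← mul_smul, h1, mul_smul, inv_smul_eq_iff.mpr (val_fixed _).symm]
  obtain ⟨S, hS⟩ := exists_val hδfix
  refine ⟨S, hS, ?_⟩
  rw [← parOf_valF S, show valF S = vec (wordElt wD • val (minP 6)) by rw [hS]; rfl, ← parL_lv,
    lv_word hdok, lv_val]
  exact wD_spec.1

theorem vec6_notMem : ∀ x, emb1 x ≠ vecC 6 := by decide +kernel

theorem vec32_mem : ∃ x, emb1 x = vecC 32 := ⟨![1, 0, 0], by decide +kernel⟩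

variable {G : Type*} [Group G] [Finite G] {z : G} {Q : Subgroup (Subgroup.centralizer ({z} : Set G))}
  [Q.Normal] {e : Cen[z] ⧸ Q ≃* Spor.Co1} {ψ : leechLattice → Q ⧸ Subgroup.center Q}
  {b : Subgroup.centralizer ({z} : Set G)} {B : Subgroup G}

namespace Ctx

variable (X : Ctx z Q e ψ b)

include X in
theorem exists_norm (j : ℕ) (x : Cen[z]) (hx : X.pr x * β0 * (X.pr x)⁻¹ = β0 ^ j) :
    ∃ q ∈ Q, q * x * b * (q * x)⁻¹ = b ^ j := by
  have hpow : (b ^ j) ^ 7 = 1 := by rw [← pow_mul, mul_comm, pow_mul, X.hb7, one_pow]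
  obtain ⟨q, hq, hqe⟩ := Co1Local52.exists_conj_ker (by norm_num : Nat.Prime 7) X.pr X.not_dvd
    (show (x * b * x⁻¹) ^ 7 = 1 by rw [conj_pow, X.hb7, mul_one, mul_inv_cancel]) hpow
    (by rw [map_mul, map_mul, map_inv, X.pr_b, hx, map_pow, X.pr_b])
    (by
      rw [map_mul, map_mul, map_inv, X.pr_b]
      intro h
      exact β0_ne_one (by simpa using conj_eq_one_iff.mp h))
  exact ⟨q, X.pr_eq_one.mp (MonoidHom.mem_ker.mp hq), by rw [← hqe]; group⟩

include X in
theorem exists_square : ∃ n : Cen[z], n * b * n⁻¹ = b ^ 2 := by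
  obtain ⟨x, hx⟩ := X.pr_surjective (Frame.bar (wordElt wN))
  obtain ⟨q, -, hq⟩ := X.exists_norm 2 x (by
    rw [hx]
    show Frame.bar _ * Frame.bar π0 * (Frame.bar _)⁻¹ = Frame.bar π0 ^ 2
    rw [← map_inv, ← map_mul, ← map_mul, ← map_pow, wN_spec, mul_inv_cancel_right])
  exact ⟨_, hq⟩

include X in
theorem exists_invol_inverting : ∃ t : Cen[z], t * t = 1 ∧ t * b * t⁻¹ = b⁻¹ ∧
    ∃ Dt : Co0, X.pr t = Frame.bar Dt ∧ Frame.bar Dt * β0 * (Frame.bar Dt)⁻¹ = β0⁻¹ := by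
  obtain ⟨d, hd, hne, γ, hγ⟩ := exists_inverting
  obtain ⟨u, hu, hue⟩ := InvolLift.exists_invol X.hS X.hψ hd hne γ
  obtain ⟨Dt, hDt⟩ : ∃ Dt, Dt = γ * d * γ⁻¹ := ⟨_, rfl⟩
  rw [← hDt] at hγ hue
  have hbar : Frame.bar Dt * β0 * (Frame.bar Dt)⁻¹ = β0⁻¹ := by
    show Frame.bar _ * Frame.bar π0 * (Frame.bar _)⁻¹ = (Frame.bar π0)⁻¹
    rw [← map_inv, ← map_mul, ← map_mul, ← map_inv, hγ, mul_inv_cancel_right]
  -- conjugate the involution to one normalising the cyclic group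
  obtain ⟨w, hw⟩ : ∃ w, w = u * (b ^ 4 * u * (b ^ 4)⁻¹) := ⟨_, rfl⟩
  have hpru : X.pr u = Frame.bar Dt := hue
  have hu' : u⁻¹ = u := inv_eq_of_mul_eq_one_right hu
  have hD2 : Frame.bar Dt * Frame.bar Dt = 1 := by rw [← hpru, ← map_mul, hu, map_one]
  have hD' : (Frame.bar Dt)⁻¹ = Frame.bar Dt := inv_eq_of_mul_eq_one_right hD2
  have hwβ : X.pr w = β0⁻¹ := by
    rw [hw, map_mul, map_mul, map_mul, map_inv, map_pow, X.pr_b, hpru]
    have h4 : Frame.bar Dt * β0 ^ 4 * (Frame.bar Dt)⁻¹ = (β0⁻¹) ^ 4 := by rw [← conj_pow, hbar]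
    calc Frame.bar Dt * (β0 ^ 4 * Frame.bar Dt * (β0 ^ 4)⁻¹)
        = Frame.bar Dt * β0 ^ 4 * (Frame.bar Dt)⁻¹ * (Frame.bar Dt * Frame.bar Dt) * (β0 ^ 4)⁻¹ := by
          group
      _ = β0⁻¹ ^ 4 * (β0 ^ 4)⁻¹ := by rw [h4, hD2, mul_one]
      _ = (β0 ^ 7)⁻¹ * β0⁻¹ := by group
      _ = β0⁻¹ := by rw [β0_pow7, inv_one, one_mul]
  have hwinv : u * w * u⁻¹ = w⁻¹ := by
    have hub : (b ^ 4 * u * (b ^ 4)⁻¹) * (b ^ 4 * u * (b ^ 4)⁻¹) = 1 := by
      rw [conj_mul, hu, mul_one, mul_inv_cancel]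
    rw [hw, mul_inv_rev, inv_eq_of_mul_eq_one_right hub, hu']
    calc u * (u * (b ^ 4 * u * (b ^ 4)⁻¹)) * u = (u * u) * (b ^ 4 * u * (b ^ 4)⁻¹) * u := by group
      _ = _ := by rw [hu, one_mul]
  -- its part of order seven
  have hw7 : (w ^ 2 ^ 27) ^ 7 = 1 := by
    have hmem : w ^ 7 ∈ Q := X.pr_eq_one.mp (by rw [map_pow, hwβ, inv_pow, β0_pow7, inv_one])
    have h := pow_card_eq_one' (x := (⟨_, hmem⟩ : Q))
    rw [X.hS.2.2.2.1] at h
    have h' : (w ^ 7) ^ (2 ^ (2 * 12 + 1)) = 1 := by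
      simpa only [SubgroupClass.coe_pow, OneMemClass.coe_one] using congrArg Subtype.val h
    rw [← pow_mul, mul_comm, show (7 : ℕ) * 2 ^ 27 = 7 * 2 ^ (2 * 12 + 1) * 4 by norm_num,
      pow_mul, pow_mul, h', one_pow]
  have hβ27 : X.pr (w ^ 2 ^ 27) = β0⁻¹ := by
    rw [map_pow, hwβ, show (2 : ℕ) ^ 27 = 7 * 19173961 + 1 by norm_num, pow_succ, pow_mul,
      inv_pow, β0_pow7, inv_one, one_pow, one_mul]
  obtain ⟨q, hq, hqe⟩ := Co1Local52.exists_conj_ker (by norm_num : Nat.Prime 7) X.pr X.not_dvd hw7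
    (show b⁻¹ ^ 7 = 1 by rw [inv_pow, X.hb7, inv_one]) (by rw [hβ27, map_inv, X.pr_b])
    (by rw [hβ27]; exact inv_ne_one.mpr β0_ne_one)
  have hq1 : X.pr q = 1 := MonoidHom.mem_ker.mp hq
  have hpow : u * w ^ 2 ^ 27 * u⁻¹ = (w ^ 2 ^ 27)⁻¹ := by rw [← conj_pow, hwinv, inv_pow]
  refine ⟨q * u * q⁻¹, by rw [conj_mul, hu, mul_one, mul_inv_cancel], ?_, Dt,
    by rw [map_mul, map_mul, map_inv, hq1, hpru, one_mul, inv_one, mul_one], hbar⟩
  have hbq : b = q * (w ^ 2 ^ 27)⁻¹ * q⁻¹ := by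
    calc b = (b⁻¹)⁻¹ := (inv_inv b).symm
      _ = (q * w ^ 2 ^ 27 * q⁻¹)⁻¹ := by rw [hqe]
      _ = _ := by group
  calc q * u * q⁻¹ * b * (q * u * q⁻¹)⁻¹
      = q * (u * w ^ 2 ^ 27 * u⁻¹)⁻¹ * q⁻¹ := by rw [hbq]; group
    _ = _ := by rw [hpow, inv_inv, hqe]

include X in
/-- No element of the centraliser acts on it as an inverting element. -/
theorem not_inner (hB : B = Subgroup.zpowers (b : G))
    [(B.subgroupOf (Subgroup.centralizer (B : Set G))).Normal]
    {t : Cen[z]} (htb : t * b * t⁻¹ = b⁻¹) {Dt : Co0} (hDt : X.pr t = Frame.bar Dt)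
    (hDtβ : Frame.bar Dt * β0 * (Frame.bar Dt)⁻¹ = β0⁻¹) {l : G}
    (hl : l ∈ Subgroup.centralizer (B : Set G))
    (hl' : ∀ x ∈ (layer (Subgroup.centralizer (B : Set G))).map
      (Subgroup.centralizer (B : Set G)).subtype,
      (t : G) * x * (t : G)⁻¹ = l * x * l⁻¹) : False := by
  have hlb : Commute l (b : G) := (mem_CB hB).mp hl
  have htbG : (t : G) * (b : G) * (t : G)⁻¹ = (b : G)⁻¹ := congrArg Subtype.val htb
  have hnt : ∀ x ∈ Subgroup.centralizer (B : Set G), (t : G) * x * (t : G)⁻¹ ∈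
      Subgroup.centralizer (B : Set G) := fun x hx => by
    rw [mem_CB hB] at hx ⊢
    have h : Commute ((t : G) * x * (t : G)⁻¹) ((t : G) * (b : G) * (t : G)⁻¹) :=
      hx.map (MulAut.conj (t : G)).toMonoidHom
    rw [htbG] at h
    simpa using h.inv_right
  obtain ⟨t', ht'⟩ : ∃ t', t' = l⁻¹ * (t : G) := ⟨_, rfl⟩
  have hmove : ∀ c ∈ Subgroup.centralizer (B : Set G), t' * c * t'⁻¹ * c⁻¹ ∈ B := fun c hc =>
    X.comm_mem_of_layer hB (C := Subgroup.centralizer (B : Set G)) rfl (t := t')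
    (fun x hx => by
      rw [ht', show l⁻¹ * (t : G) * x * (l⁻¹ * (t : G))⁻¹ = l⁻¹ * ((t : G) * x * (t : G)⁻¹) * l by
        group]
      exact mul_mem (mul_mem (inv_mem hl) (hnt x hx)) hl)
    (fun x hx => by
      calc t' * x = l⁻¹ * ((t : G) * x * (t : G)⁻¹) * (t : G) := by rw [ht']; group
        _ = x * t' := by rw [hl' x hx, ht']; group) hc
  -- the involution is fixed
  have htz : (t : G) * z = z * (t : G) := Subgroup.mem_centralizer_singleton_iff.mp t.2
  have hlz : l * z = z * l := by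
    have hzC : z ∈ Subgroup.centralizer (B : Set G) :=
      (mem_CB hB).mpr (Subgroup.mem_centralizer_singleton_iff.mp b.2).symm
    obtain ⟨i, hi⟩ := Subgroup.mem_zpowers_iff.mp (hB ▸ hmove _ hzC)
    have hi' : (b : G) ^ i = l⁻¹ * z * l * z⁻¹ := by
      rw [hi, ht', show l⁻¹ * (t : G) * z * (l⁻¹ * (t : G))⁻¹ * z⁻¹ =
        l⁻¹ * ((t : G) * z * (t : G)⁻¹) * l * z⁻¹ by group, htz, mul_inv_cancel_right]
    have hz2 : z * z = 1 := by
      have := pow_orderOf_eq_one z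
      rwa [X.hS.1, pow_two] at this
    have hlz' : l⁻¹ * z * l = (b : G) ^ i * z := by rw [hi']; group
    have hbz : Commute ((b : G) ^ i) z :=
      (show Commute (b : G) z from Subgroup.mem_centralizer_singleton_iff.mp b.2).zpow_left i
    have hsq : ((b : G) ^ i) * ((b : G) ^ i) = 1 := by
      have h : (l⁻¹ * z * l) * (l⁻¹ * z * l) = 1 := by
        calc (l⁻¹ * z * l) * (l⁻¹ * z * l) = l⁻¹ * (z * z) * l := by group
          _ = 1 := by rw [hz2]; group
      rw [hlz', mul_assoc, ← mul_assoc z, ← hbz.eq, mul_assoc, hz2, mul_one] at h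
      exact h
    have h7 : ((b : G) ^ i) ^ 7 = 1 := by
      rw [← zpow_natCast, ← zpow_mul, mul_comm, zpow_mul, zpow_natCast, ← SubgroupClass.coe_pow,
        X.hb7, OneMemClass.coe_one, one_zpow]
    rw [show (7 : ℕ) = 2 * 3 + 1 from rfl, pow_succ, pow_mul, pow_two, hsq, one_pow, one_mul] at h7
    rw [h7, one_mul] at hlz'
    calc l * z = l * (l⁻¹ * z * l) := by rw [hlz']
      _ = z * l := by group
  let lH : X.HH := ⟨⟨l, Subgroup.mem_centralizer_singleton_iff.mpr hlz⟩,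
    Subgroup.mem_centralizer_singleton_iff.mpr (Subtype.ext hlb.eq)⟩
  -- the class moved by the inverting element
  obtain ⟨q6, hq6, hq6c⟩ := X.coord_surjective (vecC 6)
  have hbq : b * (q6 : Cen[z]) = (q6 : Cen[z]) * b :=
    (Subgroup.mem_centralizer_singleton_iff.mp q6.2).symm
  have htqH : t * (q6 : Cen[z]) * t⁻¹ ∈ X.HH := by
    rw [Subgroup.mem_centralizer_singleton_iff]
    have hb' : b = (t * b * t⁻¹)⁻¹ := by rw [htb, inv_inv]
    have hc : Commute (t * (q6 : Cen[z]) * t⁻¹) (t * b * t⁻¹) :=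
      (show Commute (q6 : Cen[z]) b from hbq.symm).map (MulAut.conj t).toMonoidHom
    have h := hc.inv_right
    rw [← hb'] at h
    exact h.eq
  let tq : X.HH := ⟨_, htqH⟩
  have htq : tq ∈ X.Q0 := (inferInstance : Q.Normal).conj_mem _ hq6 t
  have hlq : lH * q6 * lH⁻¹ ∈ X.Q0 := (inferInstance : X.Q0.Normal).conj_mem q6 hq6 lH
  have hsame : tq = lH * q6 * lH⁻¹ := by
    have hm := hmove _ (X.toCB hB q6).2
    rw [toCB_coe] at hm
    have hdiff : (tq : Cen[z]) * ((lH * q6 * lH⁻¹ : X.HH) : Cen[z])⁻¹ ∈ Subgroup.zpowers b := by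
      obtain ⟨i, hi⟩ := Subgroup.mem_zpowers_iff.mp (hB ▸ hm)
      refine Subgroup.mem_zpowers_iff.mpr ⟨i, Subtype.ext ?_⟩
      rw [SubgroupClass.coe_zpow]
      show _ = (t : G) * ((q6 : Cen[z]) : G) * (t : G)⁻¹ * (l * ((q6 : Cen[z]) : G) * l⁻¹)⁻¹
      have hcomm : l * (b : G) ^ i * l⁻¹ = (b : G) ^ i :=
        mul_inv_eq_iff_eq_mul.mpr (hlb.zpow_right i).eq
      rw [← hcomm, hi, ht']
      group
    exact mul_inv_eq_one.mp (Subtype.ext (X.zpowers_inter hdiff (mul_mem htq (inv_mem hlq))))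
  -- compute both classes
  obtain ⟨g', hg', hgc⟩ := X.coord_conj lH hq6
  rw [← hsame, hq6c] at hgc
  obtain ⟨hδ, S, hS, hS32⟩ := delta_spec
  obtain ⟨g, hg⟩ : ∃ g, g = Dt * (wordElt wD)⁻¹ := ⟨_, rfl⟩
  have hgC : g ∈ CC := mem_CC_of_bar (by
    rw [C7, Subgroup.mem_centralizer_singleton_iff]
    have hd : Frame.bar (wordElt wD) * β0 * (Frame.bar (wordElt wD))⁻¹ = β0⁻¹ := by
      show Frame.bar _ * Frame.bar π0 * (Frame.bar _)⁻¹ = (Frame.bar π0)⁻¹
      rw [← map_inv, ← map_mul, ← map_mul, ← map_inv, hδ, mul_inv_cancel_right]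
    rw [hg, map_mul, map_inv]
    have hd' : (Frame.bar (wordElt wD))⁻¹ * β0 = β0⁻¹ * (Frame.bar (wordElt wD))⁻¹ := by
      calc (Frame.bar (wordElt wD))⁻¹ * β0
          = (Frame.bar (wordElt wD))⁻¹ * (Frame.bar (wordElt wD) * β0 * (Frame.bar (wordElt wD))⁻¹)⁻¹ := by
            rw [hd, inv_inv]
        _ = _ := by group
    have hD' : Frame.bar Dt * β0⁻¹ = β0 * Frame.bar Dt := by
      calc Frame.bar Dt * β0⁻¹
          = (Frame.bar Dt * β0 * (Frame.bar Dt)⁻¹)⁻¹ * Frame.bar Dt := by group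
        _ = _ := by rw [hDtβ, inv_inv]
    rw [mul_assoc, hd', ← mul_assoc, hD', mul_assoc])
  obtain ⟨T, hT, hT'⟩ := exists_smul_val hgC S
  have hfix : Eqv (val (lift (vecC 6))) (val (minP 6)) :=
    eqv_val_iff.mpr (by rw [red_lift, (minP_ok 6 (by norm_num)).1])
  have hcoord : X.coord tq = actV g (vecC 32) := by
    rw [← hS32, ← hT']
    refine X.coord_of_eq htq ?_
    rw [← hT, ← hS, ← mul_smul, hg, inv_mul_cancel_right]
    have hq : ψ (val (minP 6)) = QuotientGroup.mk ⟨(q6 : Cen[z]), hq6⟩ := by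
      rw [← X.coord_spec hq6, hq6c, MonsterCore.psi_eq_iff X.hψ]
      exact hfix.symm
    rw [X.hψ.2.2.2 t Dt hDt.symm _ _ hq]
  obtain ⟨x32, hx32⟩ := vec32_mem
  obtain ⟨y, hy⟩ := inv_W1 hgC x32
  rw [hx32, ← hcoord, hgc] at hy
  obtain ⟨y', hy'⟩ := inv_W1 (inv_mem g'.2) y
  rw [← hy, ← actV_mul (inv_mem g'.2) g'.2, inv_mul_cancel, actV_one] at hy'
  exact vec6_notMem y' hy'.symm

end Ctx

end Cfsg.Agent.Lib.MonsterHeld52
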