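import Cfsg.Agent.Lib.MonsterHeld52.Action

/-!
The homomorphism of the centraliser of the permutation of order 7 onto the linear group of the
subspace, its kernel, and the version modulo the sign.

Owner: helper52.
-/

set_option autoImplicit false
set_option maxRecDepth 20000

namespace Cfsg.Agent.Lib.MonsterHeld52

open Cfsg Cfsg.Agent.Lib.Leech Cfsg.Agent.Lib.Golay Cfsg.Agent.Lib.Co3Model
open Cfsg.Agent.Lib.Computation (getW mulP)
open Cfsg.Agent.Lib.M24Classes
open Cfsg.Agent.Lib.LeechMod2
open scoped Matrix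

/-- The matrix of an element on the subspace. -/
noncomputable def mat (g : Co0) : Matrix (Fin 3) (Fin 3) (ZMod 2) :=
  Matrix.of fun i j => prj (actV g (emb1 (Pi.single j 1))) i

theorem actV_emb1 {g : Co0} (hg : g ∈ CC) (x : Fin 3 → ZMod 2) :
    actV g (emb1 x) = emb1 (mat g *ᵥ x) := by
  obtain ⟨y, hy⟩ := inv_W1 hg x
  let A : (Fin 3 → ZMod 2) →+ (Fin 3 → ZMod 2) :=
    AddMonoidHom.mk' (fun z => prj (actV g (emb1 z))) fun a b => by
      simp only [emb1_add, actV_add hg, prj_add]
  have hA : A x = y := by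
    show prj (actV g (emb1 x)) = y
    rw [hy, prj_emb]
  have e : x = ∑ j, Pi.single j (x j) := (Finset.univ_sum_single x).symm
  have hA2 : A x = mat g *ᵥ x := by
    conv_lhs => rw [e, map_sum]
    funext i
    simp only [Matrix.mulVec, dotProduct, Finset.sum_apply]
    refine Finset.sum_congr rfl fun j _ => ?_
    rcases (by decide : ∀ a : ZMod 2, a = 0 ∨ a = 1) (x j) with h | h <;> rw [h]
    · rw [Pi.single_zero, map_zero, mul_zero]
      rfl
    · rw [mul_one]
      rfl
  rw [hy, ← hA, hA2]

theorem mat_one : mat 1 = 1 := by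
  funext i j
  show prj (actV 1 (emb1 (Pi.single j 1))) i = _
  rw [actV_one, prj_emb, Matrix.one_apply, Pi.single_apply]

theorem mat_mul {g h : Co0} (hg : g ∈ CC) (hh : h ∈ CC) : mat (g * h) = mat g * mat h := by
  funext i j
  show prj (actV (g * h) (emb1 (Pi.single j 1))) i = _
  rw [actV_mul hg hh, actV_emb1 hh, actV_emb1 hg, prj_emb, Matrix.mulVec_mulVec,
    Matrix.mulVec_single_one]
  rfl

/-- The representation. -/
noncomputable def phi : CC →* Matrix.SpecialLinearGroup (Fin 3) (ZMod 2) where
  toFun g := ⟨mat g, by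
    have h1 : mat (g : Co0) * mat ((g : Co0)⁻¹) = 1 := by
      rw [← mat_mul g.2 (inv_mem g.2), mul_inv_cancel, mat_one]
    have h2 : (mat (g : Co0)).det * (mat ((g : Co0)⁻¹)).det = 1 := by
      rw [← Matrix.det_mul, h1, Matrix.det_one]
    rcases (by decide : ∀ a : ZMod 2, a = 0 ∨ a = 1) (mat (g : Co0)).det with h | h
    · rw [h, zero_mul] at h2; exact absurd h2 zero_ne_one
    · exact h⟩
  map_one' := Subtype.ext mat_one
  map_mul' g h := Subtype.ext (mat_mul g.2 h.2)

theorem phi_coe (g : CC) : (phi g : Matrix (Fin 3) (Fin 3) (ZMod 2)) = mat (g : Co0) := rfl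

/-! ### surjectivity -/

/-- The matrix with a given code. -/
def decM (c : ℕ) : Matrix (Fin 3) (Fin 3) (ZMod 2) :=
  Matrix.of fun i j => bif c.testBit (3 * i.val + j.val) then 1 else 0

/-- The matrix of a word. -/
def matW (w : List Op) : Matrix (Fin 3) (Fin 3) (ZMod 2) :=
  Matrix.of fun i j => prj (actW w (emb1 (Pi.single j 1))) i

theorem mat_word {w : List Op} (h : w.all Op.ok = true) : mat (wordElt w) = matW w := by
  funext i j
  show prj (actV (wordElt w) _) i = prj (actW w _) i
  rw [actV_word h]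

theorem tCodes_ok : ∀ t ∈ tCodes, ∃ w ∈ wT, matW w = decM t := by decide +kernel

theorem uCodes_ok : ∀ u ∈ uCodes, ∃ w ∈ wU, matW w = decM u := by decide +kernel

/-- The product of two matrix codes. -/
def mulC (a b : ℕ) : ℕ :=
  (List.range 9).foldr (fun k m =>
    bif ((List.range 3).foldr (fun l s =>
      (a.testBit (3 * (k / 3) + l) && b.testBit (3 * l + k % 3)) ^^ s) false)
    then m ||| 2 ^ k else m) 0

theorem decM_cover : ∀ M : Matrix (Fin 3) (Fin 3) (ZMod 2), ∃ c ∈ List.range 512, M = decM c := by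
  have h : ∀ f : Fin 9 → Bool, ∃ c ∈ List.range 512, ∀ k : Fin 9, c.testBit k.val = f k := by
    decide +kernel
  intro M
  obtain ⟨c, hc, he⟩ := h fun k => decide (M ⟨k.val / 3, by omega⟩ ⟨k.val % 3, by omega⟩ = 1)
  refine ⟨c, hc, Matrix.ext fun i j => ?_⟩
  have := he ⟨3 * i.val + j.val, by omega⟩
  simp only [decM, Matrix.of_apply]
  rw [this]
  have e1 : (3 * i.val + j.val) / 3 = i.val := by omega
  have e2 : (3 * i.val + j.val) % 3 = j.val := by omega
  simp only [e1, e2, Fin.eta]
  rcases (by decide : ∀ a : ZMod 2, a = 0 ∨ a = 1) (M i j) with h' | h' <;> simp [h']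

/-- Every matrix of determinant one is a product of two listed ones. -/
def slOK : Bool :=
  (List.range 512).all fun c =>
    (tCodes.any fun t => uCodes.any fun u =>
      Nat.beq (mulC t u) c && decide (decM t * decM u = decM c)) || decide ((decM c).det ≠ 1)

theorem slOK_true : slOK = true := by decide +kernel

theorem phi_surjective : Function.Surjective phi := by
  intro M
  obtain ⟨c, hc, hce⟩ := decM_cover M.1
  have h := slOK_true
  simp only [slOK, List.all_eq_true, Bool.or_eq_true, List.any_eq_true, Bool.and_eq_true,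
    decide_eq_true_eq] at h
  rcases h c hc with ⟨t, ht, u, hu, -, he⟩ | hdet
  · have hok := words_ok
    simp only [Bool.and_eq_true, List.all_eq_true] at hok
    obtain ⟨⟨⟨⟨-, hT⟩, hU⟩, -⟩, -⟩ := hok
    obtain ⟨v, hv, hve⟩ := tCodes_ok t ht
    obtain ⟨w, hw, hwe⟩ := uCodes_ok u hu
    obtain ⟨v1, v2⟩ := mem_of_centW (hT v hv)
    obtain ⟨w1, w2⟩ := mem_of_centW (hU w hw)
    refine ⟨⟨_, mul_mem v1 w1⟩, Subtype.ext ?_⟩
    rw [phi_coe]
    show mat (wordElt v * wordElt w) = M.1
    rw [mat_mul v1 w1, mat_word v2, mat_word w2, hve, hwe, he, hce]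
  · exact absurd (hce ▸ M.2) hdet

/-! ### the kernel -/

theorem negOne_eq : wordElt [.sign 16777215] = negOne := by
  have h : inCode 16777215 = true := by decide +kernel
  refine co0_ext fun q => lv_injective ?_
  rw [lv_word (w := [.sign 16777215]) (by simp [Op.ok, h]), lv_eightE, negOne_smul]
  refine (lv_eq_map (f := fun i => -ent (axL (idx q)) i) fun i hi => ?_).trans ?_ |>.symm
  · rw [← lv_eightE, ent_lv _ hi]
    simp [vec]
  · simp only [appWord, Op.app]
    refine List.map_congr_left fun i hi => ?_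
    rw [List.mem_range] at hi
    have : ∀ j < 24, (16777215 : ℕ).testBit j = true := by decide +kernel
    rw [this i hi, if_pos rfl]

/-- The identity matrix and the trivial elements. -/
def kerOK : Bool :=
  fix8.all fun m => centL.all fun e =>
    (Op.sign m).ok && (Op.perm e.1 e.2).ok &&
      (!decide (matW [.sign m, .perm e.1 e.2] = 1) ||
        ((Nat.beq m 0 || Nat.beq m 16777215) &&
          (List.range 7).any fun j => S5604.eqList e.1 (S5604.powCode j)))

theorem kerOK_true : kerOK = true := by decide +kernel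

/-- The fixed code words. -/
def fixOK : Bool :=
  (List.range 4096).all fun k =>
    !((List.range 24).all fun i => (enc k).testBit (getW 5 Data.r7 i) == (enc k).testBit i) ||
      fix8.any (fun m => Nat.beq (enc k) m)

theorem fixOK_true : fixOK = true := by decide +kernel

/-- The centraliser in the code group is listed. -/
def centOK : Bool :=
  Data.orb7.all fun a => Data.stabN.all fun b =>
    inM24 a && inM24 b &&
      (!Enum.commTest Data.r7 (mulP 24 5 a b) || centL.any fun e => S5604.eqList (mulP 24 5 a b) e.1)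

theorem centOK_true : centOK = true := by decide +kernel

theorem gperm_eqList {a b : ℕ} (ha : okCode a = true) (hb : okCode b = true)
    (h : S5604.eqList a b = true) : gperm a = gperm b := by
  simp only [S5604.eqList, List.all_eq_true, List.mem_range, Nat.beq_eq] at h
  refine Equiv.ext fun p => idx_injective ?_
  rw [idx_gperm ha, idx_gperm hb]
  exact h _ (idx_lt p)

theorem exists_centL {τ : M24} (h : τ * σ0 = σ0 * τ) :
    ∃ e ∈ centL, okCode e.1 = true → gperm e.1 = (τ : Equiv.Perm GolayPt) := by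
  have h' : (τ : Equiv.Perm GolayPt) * gperm Data.r7 = gperm Data.r7 * (τ : Equiv.Perm GolayPt) :=
    congrArg Subtype.val h
  obtain ⟨a, ha, b, hb, he⟩ := S5604.product_K (g := (τ : Equiv.Perm GolayPt))
    (S5604.mem_K.mpr ⟨τ.2, 1, by simp [S5604.exps], by rw [pow_one]; exact h'⟩)
  have hc := centOK_true
  simp only [centOK, List.all_eq_true, Bool.and_eq_true, Bool.or_eq_true, Bool.not_eq_true',
    List.any_eq_true] at hc
  obtain ⟨⟨oa, ob⟩, hcase⟩ := hc a ha b hb
  have oab := okCode_mulP (okCode_of_inM24 oa) (okCode_of_inM24 ob)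
  have hg : gperm (mulP 24 5 a b) = (τ : Equiv.Perm GolayPt) := by
    rw [gperm_mul (okCode_of_inM24 oa) (okCode_of_inM24 ob), he]
  have ht : Enum.commTest Data.r7 (mulP 24 5 a b) = true :=
    (Enum.commTest_iff inM24_r7 oab).mpr (by rw [hg]; exact Centralizers.mem_cent.mpr ⟨τ.2, h'⟩)
  rcases hcase with hcase | ⟨e, hem, hee⟩
  · rw [ht] at hcase; exact Bool.noConfusion hcase
  · exact ⟨e, hem, fun oe => (gperm_eqList oab oe hee).symm.trans hg⟩

theorem exists_fix8 {d : Co0} (hd : d ∈ Frame.diag) (hc : d * π0 = π0 * d) :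
    ∃ m ∈ fix8, inCode m = true ∧ d = (Op.sign m).elt := by
  obtain ⟨c, hcc, rfl⟩ := Frame.mem_diag_iff.mp hd
  obtain ⟨k, hk, rfl⟩ := mem_supports_iff.mp hcc
  have hinv : ∀ q : GolayPt, (q ∈ setOfMask (enc k)) ↔
      ((σ0 : Equiv.Perm GolayPt) q ∈ setOfMask (enc k)) := by
    intro q
    have h1 : Leech.flip (setOfMask (enc k)) hcc • (π0 • eightE q) =
        π0 • (Leech.flip (setOfMask (enc k)) hcc • eightE q) := by rw [← mul_smul, hc, mul_smul]
    have h2 := congrArg (fun v => vec v ((σ0 : Equiv.Perm GolayPt) q)) h1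
    simp only [π0] at h2
    rw [permHom_eightE, flip_smul, permHom_apply, Equiv.symm_apply_apply, flip_smul] at h2
    simp only [eightE, vec, Pi.single_eq_same] at h2
    by_cases a1 : q ∈ setOfMask (enc k) <;>
      by_cases a2 : (σ0 : Equiv.Perm GolayPt) q ∈ setOfMask (enc k) <;>
      simp only [a1, a2, if_true, if_false] at h2 ⊢ <;> omega
  have hf := fixOK_true
  simp only [fixOK, List.all_eq_true, List.mem_range, Bool.or_eq_true, Bool.not_eq_true',
    List.any_eq_true, Nat.beq_eq] at hf
  rcases hf k hk with h | ⟨m, hm, he⟩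
  · exfalso
    have hall : ((List.range 24).all fun i =>
        (enc k).testBit (getW 5 Data.r7 i) == (enc k).testBit i) = true := by
      simp only [List.all_eq_true, List.mem_range, beq_iff_eq]
      intro i hi
      have h1 := hinv (pt i)
      rw [show (σ0 : Equiv.Perm GolayPt) = gperm Data.r7 from rfl] at h1
      simp only [mem_setOfMask, idx_gperm (okCode_of_inM24 inM24_r7), idx_pt hi] at h1
      exact Bool.eq_iff_iff.mpr h1.symm
    rw [hall] at h
    exact Bool.noConfusion h
  · subst he
    have hi : inCode (enc k) = true := inCode_enc hk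
    refine ⟨_, hm, hi, ?_⟩
    simp only [Op.elt, dif_pos hi]

/-- The kernel of the representation. -/
theorem phi_eq_one {g : CC} (h : phi g = 1) :
    ∃ j : ℕ, (g : Co0) = π0 ^ j ∨ (g : Co0) = negOne * π0 ^ j := by
  have hm1 : mat (g : Co0) = 1 := congrArg Subtype.val h
  obtain ⟨R, hR, hR'⟩ := exists_smul_val g.2 (minP 32)
  obtain ⟨h32, -⟩ := minP_ok 32 (by norm_num)
  have e32 : vecC 32 = emb1 ![1, 0, 0] := by decide +kernel
  rw [h32, e32, actV_emb1 g.2, hm1, Matrix.one_mulVec, ← e32, ← h32] at hR'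
  have hcross := cross_of_fix (g := (g : Co0)) (hR ▸ eqv_val_iff.mpr hR')
  obtain ⟨d, hd, τ, hτ⟩ := Frame.exists_split hcross
  obtain ⟨hτσ, hdc⟩ := perm_part (j := 1) (τ := τ) hd
    (by rw [← hτ, pow_one]; exact mem_CC.mp g.2)
  rw [pow_one] at hτσ
  obtain ⟨e, he, hee⟩ := exists_centL hτσ
  obtain ⟨m, hm, hmc, rfl⟩ := exists_fix8 hd (hdc rfl)
  have hk := kerOK_true
  simp only [kerOK, List.all_eq_true, Bool.and_eq_true, Bool.or_eq_true, Bool.not_eq_true',
    decide_eq_false_iff_not, List.any_eq_true, List.mem_range, Nat.beq_eq] at hk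
  obtain ⟨⟨hsok, hpok⟩, hcase⟩ := hk m hm e he
  have hoe : okCode e.1 = true := by
    simp only [Op.ok, Bool.and_eq_true] at hpok
    exact okCode_of_inM24 hpok.1.1
  have hpe : (Op.perm e.1 e.2).elt = permHom τ := by
    simp only [Op.elt, dif_pos hpok]
    exact congrArg permHom (Subtype.ext (hee hoe))
  have hg : (g : Co0) = wordElt [.sign m, .perm e.1 e.2] := by
    rw [hτ, wordElt_cons, ← hpe]
    simp [wordElt]
  rcases hcase with hcase | ⟨hm2, j, hj, hje⟩
  · exact absurd (by rw [← mat_word (by simp [hsok, hpok]), ← hg, hm1]) hcase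
  · have hτp : permHom τ = π0 ^ j := by
      rw [π0, ← map_pow]
      refine congrArg permHom (Subtype.ext ?_)
      rw [SubgroupClass.coe_pow, ← hee hoe,
        gperm_eqList hoe (S5604.gperm_powCode j).1 hje, (S5604.gperm_powCode j).2]
      rfl
    refine ⟨j, ?_⟩
    rw [hτ, hτp]
    rcases hm2 with rfl | rfl
    · left
      have : (Op.sign 0).elt = (1 : Co0) := co0_ext fun q => by
        simp only [Op.elt, dif_pos hmc, one_smul]
        apply Subtype.ext
        funext i
        show vec _ i = _
        rw [flip_smul, if_neg (by simp)]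
      rw [this, one_mul]
    · right
      rw [← negOne_eq]
      simp [wordElt]

theorem π0_mem : π0 ∈ CC := mem_CC.mpr rfl

theorem negOne_mem : negOne ∈ CC :=
  mem_CC.mpr (Subgroup.mem_center_iff.mp negOne_mem_center π0).symm

theorem actV_negOne (x : V6) : actV negOne x = x := by
  have h0 : val 0 = 0 := Subtype.ext (map_zero valHom)
  have hn : val (-lift x) = -val (lift x) :=
    eq_neg_of_add_eq_zero_left (by rw [← val_add, neg_add_cancel, h0])
  have := actV_eq negOne_mem (P := lift x) (R := -lift x) (by rw [negOne_smul, hn])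
  rw [red_lift] at this
  rw [this]
  funext j
  have e : red (-lift x) j = -red (lift x) j := by simp [red]
  rw [e, red_lift, ZMod.neg_eq_self_mod_two]

theorem phi_negOne : phi ⟨negOne, negOne_mem⟩ = 1 := by
  refine Subtype.ext ?_
  show mat negOne = 1
  rw [← mat_one]
  funext i j
  show prj (actV negOne _) i = prj (actV 1 _) i
  rw [actV_negOne, actV_one]

theorem actV_π0 (x : V6) : actV π0 x = x := by
  have := actV_eq π0_mem (P := lift x) (R := lift x) (val_fixed _)
  rwa [red_lift] at this

theorem phi_π0 : phi ⟨π0, π0_mem⟩ = 1 := by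
  refine Subtype.ext ?_
  show mat π0 = 1
  rw [← mat_one]
  funext i j
  show prj (actV π0 _) i = prj (actV 1 _) i
  rw [actV_π0, actV_one]

end Cfsg.Agent.Lib.MonsterHeld52
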