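import Cfsg.Agent.Lib.MonsterHeld52.Fixed
import Cfsg.Agent.Lib.Balance.Locals

/-!
Monster type: the centraliser of the element of order 7 modulo that element is of Held type.

Owner: helper52.
-/

set_option autoImplicit false
set_option maxRecDepth 20000

namespace Cfsg.Agent.Lib.MonsterHeld52

open Cfsg Cfsg.Agent.Lib.Leech
open Cfsg.Agent.Lib.LeechMod2

local notation "Cen[" z "]" => Subgroup.centralizer ({z} : Set _)

variable {G : Type*} [Group G] [Finite G] {z : G} {Q : Subgroup (Subgroup.centralizer ({z} : Set G))}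
  [Q.Normal] {e : Cen[z] ⧸ Q ≃* Spor.Co1} {ψ : leechLattice → Q ⧸ Subgroup.center Q}
  {b : Subgroup.centralizer ({z} : Set G)} {B : Subgroup G}

theorem vecC32_ne : vecC 32 ≠ 0 := by decide +kernel

namespace Ctx

variable (X : Ctx z Q e ψ b) (hB : B = Subgroup.zpowers (b : G))

include hB in
theorem mem_CB {g : G} : g ∈ Subgroup.centralizer (B : Set G) ↔ Commute g (b : G) := by
  subst hB
  rw [Subgroup.mem_centralizer_iff]
  constructor
  · exact fun h => (h _ (Subgroup.mem_zpowers _)).symm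
  · rintro h x ⟨i, rfl⟩
    exact (h.zpow_right i).eq.symm

/-- The inclusion. -/
noncomputable def toCB : X.HH →* Subgroup.centralizer (B : Set G) :=
  (Cen[z].subtype.comp X.HH.subtype).codRestrict _ fun h => (mem_CB hB).mpr
    (congrArg Subtype.val (Subgroup.mem_centralizer_singleton_iff.mp h.2))

theorem toCB_coe (h : X.HH) : (X.toCB hB h : G) = ((h : Cen[z]) : G) := rfl

variable [hn : (B.subgroupOf (Subgroup.centralizer (B : Set G))).Normal]

/-- The quotient. -/
abbrev GN (B : Subgroup G) [(B.subgroupOf (Subgroup.centralizer (B : Set G))).Normal] : Type _ :=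
  Subgroup.centralizer (B : Set G) ⧸ B.subgroupOf (Subgroup.centralizer (B : Set G))

/-- The map to the quotient. -/
noncomputable def pS : X.HH →* GN B := (QuotientGroup.mk' _).comp (X.toCB hB)

theorem pS_eq_one {h : X.HH} : X.pS hB h = 1 ↔ (h : Cen[z]) ∈ Subgroup.zpowers b := by
  show (QuotientGroup.mk (X.toCB hB h) : GN B) = 1 ↔ _
  rw [QuotientGroup.eq_one_iff, Subgroup.mem_subgroupOf, toCB_coe, Subgroup.mem_zpowers_iff]
  constructor
  · intro hh
    rw [hB, Subgroup.mem_zpowers_iff] at hh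
    obtain ⟨i, hi⟩ := hh
    exact ⟨i, Subtype.ext (by rw [SubgroupClass.coe_zpow]; exact hi)⟩
  · rintro ⟨i, hi⟩
    rw [hB, ← hi, SubgroupClass.coe_zpow]
    exact zpow_mem (Subgroup.mem_zpowers _) i

theorem pS_injOn {q r : X.HH} (hq : q ∈ X.Q0) (hr : r ∈ X.Q0) (h : X.pS hB q = X.pS hB r) :
    q = r := by
  have h1 : ((q * r⁻¹ : X.HH) : Cen[z]) ∈ Subgroup.zpowers b :=
    (X.pS_eq_one hB).mp (by rw [map_mul, map_inv, h, mul_inv_cancel])
  exact mul_inv_eq_one.mp (Subtype.ext (X.zpowers_inter h1 (mul_mem hq (inv_mem hr))))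

/-- The involution. -/
noncomputable def zS : GN B := X.pS hB X.zh

/-- Lifting a conjugation between involutions. -/
theorem lift_conj {x : G} (hxb : Commute x (b : G)) (hx : x ∈ Subgroup.centralizer (B : Set G))
    (hx2 : x * x = 1) {c : Subgroup.centralizer (B : Set G)}
    (h : (QuotientGroup.mk c : GN B) * X.zS hB * (QuotientGroup.mk c)⁻¹ =
      QuotientGroup.mk (⟨x, hx⟩ : Subgroup.centralizer (B : Set G))) :
    (c : G) * z * (c : G)⁻¹ = x := by
  have h1 : (QuotientGroup.mk (⟨x, hx⟩⁻¹ * (c * X.toCB hB X.zh * c⁻¹)) : GN B) = 1 := by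
    show (QuotientGroup.mk (⟨x, hx⟩ : Subgroup.centralizer (B : Set G)))⁻¹ *
      ((QuotientGroup.mk c : GN B) * X.zS hB * (QuotientGroup.mk c)⁻¹) = 1
    rw [h, inv_mul_cancel]
  rw [QuotientGroup.eq_one_iff, Subgroup.mem_subgroupOf] at h1
  obtain ⟨i, hi⟩ : ∃ i : ℤ, (b : G) ^ i = x⁻¹ * ((c : G) * z * (c : G)⁻¹) :=
    Subgroup.mem_zpowers_iff.mp (hB ▸ h1)
  have hz2 : z * z = 1 := by
    have := pow_orderOf_eq_one z
    rwa [X.hS.1, pow_two] at this
  have hcz : (c : G) * z * (c : G)⁻¹ = x * (b : G) ^ i := by rw [hi, mul_inv_cancel_left]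
  have h2 : (x * (b : G) ^ i) * (x * (b : G) ^ i) = 1 := by
    rw [← hcz, conj_mul, hz2, mul_one, mul_inv_cancel]
  have hxi : Commute x ((b : G) ^ i) := hxb.zpow_right i
  rw [mul_assoc, ← mul_assoc ((b : G) ^ i), ← hxi.eq, mul_assoc, ← mul_assoc x, hx2, one_mul] at h2
  have h7 : ((b : G) ^ i) ^ 7 = 1 := by
    rw [← zpow_natCast, ← zpow_mul, mul_comm, zpow_mul, zpow_natCast, ← SubgroupClass.coe_pow,
      X.hb7, OneMemClass.coe_one, one_zpow]
  rw [show (7 : ℕ) = 2 * 3 + 1 from rfl, pow_succ, pow_mul, pow_two, h2, one_pow, one_mul] at h7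
  rw [hcz, h7, mul_one]

theorem zS_sq : X.zS hB * X.zS hB = 1 := by
  rw [zS, ← map_mul, show X.zh * X.zh = 1 from Subtype.ext (Subtype.ext (by
    show z * z = 1
    have := pow_orderOf_eq_one z
    rwa [X.hS.1, pow_two] at this)), map_one]

theorem zh_ne_one : X.zh ≠ 1 := fun h => by
  have h1 : z = 1 := congrArg (fun y : X.HH => ((y : Cen[z]) : G)) h
  have h2 := X.hS.1
  rw [h1, orderOf_one] at h2
  norm_num at h2

theorem zS_order : orderOf (X.zS hB) = 2 :=
  orderOf_eq_prime (by rw [pow_two]; exact X.zS_sq hB) fun h =>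
    X.zh_ne_one (X.pS_injOn hB X.zh_mem (one_mem _) (h.trans (map_one _).symm))

theorem commute_zh (h : X.HH) : Commute h X.zh :=
  Subtype.ext (Subtype.ext (Subgroup.mem_centralizer_singleton_iff.mp (h : Cen[z]).2))

/-- The map onto the centraliser of the involution. -/
noncomputable def pC : X.HH →* Subgroup.centralizer ({X.zS hB} : Set (GN B)) :=
  (X.pS hB).codRestrict _ fun h => Subgroup.mem_centralizer_singleton_iff.mpr
    ((X.commute_zh h).map (X.pS hB)).eq

theorem pC_coe (h : X.HH) : (X.pC hB h : GN B) = X.pS hB h := rfl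

theorem pC_surjective : Function.Surjective (X.pC hB) := by
  rintro ⟨c, hc⟩
  obtain ⟨g, rfl⟩ := QuotientGroup.mk_surjective c
  have hzB : z ∈ Subgroup.centralizer (B : Set G) :=
    (mem_CB hB).mpr (Subgroup.mem_centralizer_singleton_iff.mp b.2).symm
  have hz2 : z * z = 1 := by
    have := pow_orderOf_eq_one z
    rwa [X.hS.1, pow_two] at this
  have h1 := X.lift_conj hB (Subgroup.mem_centralizer_singleton_iff.mp b.2).symm hzB hz2 (c := g) (by
    rw [Subgroup.mem_centralizer_singleton_iff.mp hc, mul_inv_cancel_right]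
    rfl)
  have hgz : (g : G) ∈ Cen[z] :=
    Subgroup.mem_centralizer_singleton_iff.mpr (mul_inv_eq_iff_eq_mul.mp h1)
  exact ⟨⟨⟨g, hgz⟩, Subgroup.mem_centralizer_singleton_iff.mpr
    (Subtype.ext ((mem_CB hB).mp g.2).eq)⟩, Subtype.ext rfl⟩

theorem pC_injOn {q r : X.HH} (hq : q ∈ X.Q0) (hr : r ∈ X.Q0) (h : X.pC hB q = X.pC hB r) :
    q = r := X.pS_injOn hB hq hr (congrArg Subtype.val h)

/-- The extraspecial subgroup. -/
noncomputable def QC : Subgroup (Subgroup.centralizer ({X.zS hB} : Set (GN B))) :=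
  X.Q0.map (X.pC hB)

theorem mem_QC {c : Subgroup.centralizer ({X.zS hB} : Set (GN B))} :
    c ∈ X.QC hB ↔ ∃ q ∈ X.Q0, X.pC hB q = c := Subgroup.mem_map

instance QC_normal : (X.QC hB).Normal :=
  Subgroup.Normal.map inferInstance _ (X.pC_surjective hB)

/-- The isomorphism with the fixed part. -/
noncomputable def isoQC : X.Q0 ≃* X.QC hB :=
  MulEquiv.ofBijective (((X.pC hB).comp X.Q0.subtype).codRestrict (X.QC hB)
      fun q => Subgroup.mem_map_of_mem _ q.2)
    ⟨fun q r h => Subtype.ext (X.pC_injOn hB q.2 r.2 (congrArg Subtype.val h)), fun c => by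
      obtain ⟨q, hq, e1⟩ := (X.mem_QC hB).1 c.2
      exact ⟨⟨q, hq⟩, Subtype.ext e1⟩⟩

theorem extraspecial_Q0 : IsExtraspecial 2 X.Q0 := by
  obtain ⟨a, s, -, -⟩ := X.setting
  have hqmap : ∀ q : X.Q0, (((q : X.HH) : Cen[z]) : G) ∈ Q.map Cen[z].subtype :=
    fun q => ⟨_, q.2, rfl⟩
  refine Co1Local52.extraspecial_of (IsPGroup.of_card X.card_Q0) ⟨X.zh, X.zh_mem⟩
    (fun h => X.zh_ne_one (congrArg Subtype.val h)) (fun g => Subtype.ext (X.commute_zh _).eq)
    (fun g => ?_) (fun g h => ?_) (fun g h1 h2 => ?_) ?_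
  · rcases s.es.sq_cases (hqmap g) with e1 | e1
    · exact Or.inl (Subtype.ext (Subtype.ext (Subtype.ext e1)))
    · exact Or.inr (Subtype.ext (Subtype.ext (Subtype.ext e1)))
  · rcases s.es.conj _ (hqmap h) _ (hqmap g) with e1 | e1
    · exact Or.inl (Subtype.ext (Subtype.ext (Subtype.ext e1)))
    · exact Or.inr (Subtype.ext (Subtype.ext (Subtype.ext e1)))
  · obtain ⟨r, hr, hre⟩ := X.exists_move g.2 (fun e1 => h1 (Subtype.ext e1))
      (fun e1 => h2 (Subtype.ext e1))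
    exact ⟨⟨r, hr⟩, Subtype.ext hre⟩
  · obtain ⟨q, hq, hqx⟩ := X.coord_surjective (vecC 32)
    have hne := vecC32_ne
    refine ⟨⟨q, hq⟩, fun h => hne ?_, fun h => hne ?_⟩
    · rw [← hqx, (X.coord_eq_zero hq).mpr (Or.inl (congrArg Subtype.val h))]
    · rw [← hqx, (X.coord_eq_zero hq).mpr (Or.inr (congrArg Subtype.val h))]

theorem theta_of_ker : (X.pC hB).ker ≤ X.theta.ker := by
  intro h hh
  rw [MonoidHom.mem_ker] at hh ⊢
  obtain ⟨i, hi⟩ : (h : Cen[z]) ∈ Submonoid.powers b := by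
    rw [(orderOf_pos_iff.mp (by rw [X.orderOf_b]; norm_num) : IsOfFinOrder b).mem_powers_iff_mem_zpowers]
    exact (X.pS_eq_one hB).mp (congrArg Subtype.val hh)
  exact X.theta_eq_one.mpr ⟨i, 1, one_mem _, by rw [mul_one]; exact hi.symm⟩

/-- The representation of the centraliser of the involution. -/
noncomputable def thetaC : Subgroup.centralizer ({X.zS hB} : Set (GN B)) →*
    Matrix.SpecialLinearGroup (Fin 3) (ZMod 2) :=
  (X.pC hB).liftOfSurjective (X.pC_surjective hB) ⟨X.theta, X.theta_of_ker hB⟩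

theorem thetaC_pC (h : X.HH) : X.thetaC hB (X.pC hB h) = X.theta h :=
  MonoidHom.liftOfRightInverse_comp_apply _ _ _ _ h

theorem thetaC_surjective : Function.Surjective (X.thetaC hB) := fun M => by
  obtain ⟨h, hh⟩ := X.theta_surjective M
  exact ⟨X.pC hB h, by rw [thetaC_pC, hh]⟩

theorem mem_QC_of_theta {h : X.HH} (hh : X.theta h = 1) : X.pC hB h ∈ X.QC hB := by
  obtain ⟨j, q, hq, e1⟩ := X.theta_eq_one.mp hh
  have hbH : b ∈ X.HH := Subgroup.mem_centralizer_singleton_iff.mpr rfl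
  let bH : X.HH := ⟨b, hbH⟩
  have hqH : q ∈ X.HH := by
    have : q = (((bH ^ j)⁻¹ * h : X.HH) : Cen[z]) := by
      rw [Subgroup.coe_mul, Subgroup.coe_inv, SubgroupClass.coe_pow, e1, inv_mul_cancel_left]
    rw [this]
    exact Subtype.coe_prop _
  refine (X.mem_QC hB).mpr ⟨⟨q, hqH⟩, hq, Subtype.ext ?_⟩
  rw [pC_coe, pC_coe, show h = bH ^ j * ⟨q, hqH⟩ from Subtype.ext e1, map_mul,
    (X.pS_eq_one hB).mpr (show ((bH ^ j : X.HH) : Cen[z]) ∈ Subgroup.zpowers b by
      rw [SubgroupClass.coe_pow]; exact pow_mem (Subgroup.mem_zpowers b) j), one_mul]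

theorem ker_thetaC : (X.thetaC hB).ker = X.QC hB := by
  refine le_antisymm (fun c hc => ?_) ?_
  · obtain ⟨h, rfl⟩ := X.pC_surjective hB c
    rw [MonoidHom.mem_ker, thetaC_pC] at hc
    exact X.mem_QC_of_theta hB hc
  · rintro _ ⟨q, hq, rfl⟩
    rw [MonoidHom.mem_ker, thetaC_pC, X.theta_eq_one]
    exact ⟨0, _, hq, by rw [pow_zero, one_mul]; rfl⟩

theorem centralizer_QC_le :
    Subgroup.centralizer (X.QC hB : Set (Subgroup.centralizer ({X.zS hB} : Set (GN B)))) ≤ X.QC hB := by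
  intro c hc
  obtain ⟨h, rfl⟩ := X.pC_surjective hB c
  refine X.mem_QC_of_theta hB ?_
  have hfix : ∀ q ∈ X.Q0, h * q * h⁻¹ = q := fun q hq => by
    refine X.pC_injOn hB ((inferInstance : X.Q0.Normal).conj_mem q hq h) hq ?_
    rw [map_mul, map_mul, map_inv, ← Subgroup.mem_centralizer_iff.mp hc _
      ((X.mem_QC hB).mpr ⟨q, hq, rfl⟩), mul_inv_cancel_right]
  refine Subtype.ext (Matrix.ext fun i j => ?_)
  obtain ⟨q, hq, hqx⟩ := X.coord_surjective (emb1 (Pi.single j 1))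
  obtain ⟨g, hg, hgq⟩ := X.coord_conj h hq
  rw [hfix q hq, hqx] at hgq
  rw [← hg, phi_coe, Matrix.SpecialLinearGroup.coe_one, Matrix.one_apply]
  show prj (actV (g : Co0) (emb1 (Pi.single j 1))) i = _
  rw [← hgq, prj_emb, Pi.single_apply]

theorem pCore_eq : pCore 2 (Subgroup.centralizer ({X.zS hB} : Set (GN B))) = X.QC hB := by
  haveI : Fact (Nat.Prime 2) := ⟨Nat.prime_two⟩
  refine le_antisymm ?_ (le_sSup ⟨inferInstance,
    IsPGroup.of_card (n := 7) (by rw [← Nat.card_congr (X.isoQC hB).toEquiv, X.card_Q0])⟩)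
  have hnorm : ((pCore 2 (Subgroup.centralizer ({X.zS hB} : Set (GN B)))).map
      (X.thetaC hB)).Normal := by
    exact Subgroup.Normal.map inferInstance _ (X.thetaC_surjective hB)
  have h := normal_two_eq_bot _ ((Cores.pCore_isPGroup 2).map (X.thetaC hB))
  rw [Subgroup.map_eq_bot_iff, X.ker_thetaC hB] at h
  exact h

/-- The conjugates of the involution. -/
theorem isConj_pC_iff {q : X.HH} (hq : q ∈ X.Q0) :
    IsConj (X.zS hB) (X.pC hB q : GN B) ↔ q = X.zh ∨ isW14 (X.coord q) := by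
  constructor
  · intro h
    obtain ⟨c, hc⟩ := isConj_iff.mp h
    obtain ⟨c, rfl⟩ := QuotientGroup.mk_surjective c
    by_cases hqz : q = X.zh
    · exact Or.inl hqz
    refine Or.inr ((X.isConj_iff_W14 hq).mp ⟨?_, fun e1 => hqz (Subtype.ext (Subtype.ext e1))⟩)
    have hq2 : q * q = 1 := by
      have h2 : (X.pC hB (q * q) : GN B) = 1 := by
        rw [map_mul, Subgroup.coe_mul, ← hc, conj_mul, X.zS_sq hB, mul_one, mul_inv_cancel]
      exact X.pC_injOn hB (mul_mem hq hq) (one_mem _) (by rw [map_one]; exact Subtype.ext h2)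
    exact isConj_iff.mpr ⟨c, X.lift_conj hB
      (x := ((q : Cen[z]) : G)) (congrArg Subtype.val (Subgroup.mem_centralizer_singleton_iff.mp q.2))
      (X.toCB hB q).2 (congrArg (fun y : X.HH => ((y : Cen[z]) : G)) hq2) hc⟩
  · rintro (rfl | h)
    · exact IsConj.refl _
    · obtain ⟨h1, h2⟩ := (X.isConj_iff_W14 hq).mpr h
      obtain ⟨g, hg, hgz⟩ := X.exists_conj_z hq h2 h1
      refine isConj_iff.mpr ⟨QuotientGroup.mk ⟨g, (mem_CB hB).mpr hg⟩, ?_⟩
      show (QuotientGroup.mk (⟨g, _⟩ * X.toCB hB X.zh * ⟨g, _⟩⁻¹) : GN B) = QuotientGroup.mk (X.toCB hB q)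
      exact congrArg QuotientGroup.mk (Subtype.ext hgz)

theorem card_w14 : {x : V6 | isW14 x}.ncard = 14 := by
  classical
  have e1 : {x : V6 | isW14 x} =
      (↑((w1L ++ w2L).toFinset.image vecC) : Set V6) := by
    ext x
    simp [isW14, eq_comm]
  rw [e1, Set.ncard_coe_finset]
  decide +kernel

theorem ncard_conj :
    {x : Subgroup.centralizer ({X.zS hB} : Set (GN B)) |
      x ∈ X.QC hB ∧ IsConj (X.zS hB) (x : GN B)}.ncard = 29 := by
  classical
  have e1 : {x : Subgroup.centralizer ({X.zS hB} : Set (GN B)) |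
      x ∈ X.QC hB ∧ IsConj (X.zS hB) (x : GN B)} =
      X.pC hB '' {q : X.HH | q ∈ X.Q0 ∧ (q = X.zh ∨ isW14 (X.coord q))} := by
    ext c
    constructor
    · rintro ⟨hc, hc2⟩
      obtain ⟨q, hq, rfl⟩ := (X.mem_QC hB).mp hc
      exact ⟨q, ⟨hq, (X.isConj_pC_iff hB hq).mp hc2⟩, rfl⟩
    · rintro ⟨q, ⟨hq, h⟩, rfl⟩
      exact ⟨(X.mem_QC hB).mpr ⟨q, hq, rfl⟩, (X.isConj_pC_iff hB hq).mpr h⟩
  rw [e1, Set.InjOn.ncard_image fun q hq r hr => X.pC_injOn hB hq.1 hr.1]
  choose sec hsec hsec' using X.coord_surjective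
  have hnot : ¬ isW14 (0 : V6) := by
    rintro ⟨c, hc, e2⟩
    revert e2
    rcases hc with hc | hc <;> revert c <;> decide +kernel
  have hsecinj : Function.Injective sec := fun x y h => by rw [← hsec' x, ← hsec' y, h]
  have e2 : {q : X.HH | q ∈ X.Q0 ∧ (q = X.zh ∨ isW14 (X.coord q))} =
      insert X.zh (sec '' {x | isW14 x} ∪ (fun x => sec x * X.zh) '' {x | isW14 x}) := by
    ext q
    constructor
    · rintro ⟨hq, rfl | h⟩
      · exact Or.inl rfl
      refine Or.inr ?_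
      have h0 : X.coord (sec (X.coord q) * q) = 0 := by
        rw [X.coord_mul (hsec _) hq, hsec', CharTwo.add_self_eq_zero]
      have hinv : X.coord ((sec (X.coord q))⁻¹ * q) = 0 := by
        rw [X.coord_mul (inv_mem (hsec _)) hq]
        have h1 := X.coord_mul (inv_mem (hsec (X.coord q))) (hsec (X.coord q))
        rw [inv_mul_cancel, (X.coord_eq_zero (one_mem _)).mpr (Or.inl rfl), hsec'] at h1
        exact h1.symm
      rcases (X.coord_eq_zero (mul_mem (inv_mem (hsec _)) hq)).mp hinv with h1 | h1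
      · exact Or.inl ⟨_, h, inv_mul_eq_one.mp h1⟩
      · exact Or.inr ⟨_, h, (inv_mul_eq_iff_eq_mul.mp h1).symm⟩
    · rintro (rfl | ⟨x, hx, rfl⟩ | ⟨x, hx, rfl⟩)
      · exact ⟨X.zh_mem, Or.inl rfl⟩
      · exact ⟨hsec x, Or.inr (by rw [hsec']; exact hx)⟩
      · refine ⟨mul_mem (hsec x) X.zh_mem, Or.inr ?_⟩
        rw [X.coord_mul (hsec x) X.zh_mem, hsec', (X.coord_eq_zero X.zh_mem).mpr (Or.inr rfl),
          add_zero]
        exact hx
  have hsz : ∀ x, X.coord (sec x * X.zh) = x := fun x => by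
    rw [X.coord_mul (hsec x) X.zh_mem, hsec', (X.coord_eq_zero X.zh_mem).mpr (Or.inr rfl), add_zero]
  have hz0 := (X.coord_eq_zero X.zh_mem).mpr (Or.inr rfl)
  rw [e2, Set.ncard_insert_of_notMem, Set.ncard_union_eq,
    Set.ncard_image_of_injective _ hsecinj,
    Set.ncard_image_of_injective _ (fun x y h => hsecinj (mul_right_cancel h)), card_w14]
  · rw [Set.disjoint_left]
    rintro _ ⟨x, hx, rfl⟩ ⟨y, hy, h⟩
    have hxy : y = x := by rw [← hsz y, ← hsec' x]; exact congrArg X.coord h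
    subst hxy
    exact X.zh_ne_one (mul_eq_left.mp h)
  · rintro (⟨x, hx, h⟩ | ⟨x, hx, h⟩)
    · refine hnot ?_
      rw [← hz0, ← h, hsec']
      exact hx
    · refine hnot ?_
      rw [← hz0, ← h, hsz]
      exact hx

include X hB in
theorem held : IsOfHeldType (GN B) := by
  haveI : Fact (Nat.Prime 2) := ⟨Nat.prime_two⟩
  refine ⟨X.zS hB, X.QC hB, inferInstance, ⟨X.zS_order hB, ?_, ?_, ?_, ?_⟩, ⟨?_⟩, X.ncard_conj hB⟩
  · have h := (Balance.centralizer_pCore_le_iff (p := 2)).mp (by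
      rw [X.pCore_eq hB]; exact X.centralizer_QC_le hB)
    rwa [X.pCore_eq hB] at h
  · exact FusionP3.GenExtra.isExtraspecial_congr (X.isoQC hB) X.extraspecial_Q0
  · rw [← Nat.card_congr (X.isoQC hB).toEquiv, X.card_Q0]
  · obtain ⟨q, hq, hqx⟩ := X.coord_surjective (vecC 32)
    have hW : isW14 (X.coord q) := ⟨32, Or.inl (by decide), hqx⟩
    have hqz : q ≠ X.zh := by
      intro h
      have hne := vecC32_ne
      exact hne (by rw [← hqx, (X.coord_eq_zero hq).mpr (Or.inr h)])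
    obtain ⟨c, hc⟩ := isConj_iff.mp ((X.isConj_pC_iff hB hq).mpr (Or.inr hW))
    refine ⟨c, ⟨hc ▸ (X.pC hB q).2, ?_⟩, ?_⟩
    · rw [show (⟨c * X.zS hB * c⁻¹, hc ▸ (X.pC hB q).2⟩ :
        Subgroup.centralizer ({X.zS hB} : Set (GN B))) = X.pC hB q from Subtype.ext hc]
      exact (X.mem_QC hB).mpr ⟨q, hq, rfl⟩
    · rw [hc]
      exact fun h => hqz (X.pS_injOn hB hq X.zh_mem h)
  · exact (QuotientGroup.quotientMulEquivOfEq (X.ker_thetaC hB)).symm.trans
      (QuotientGroup.quotientKerEquivOfSurjective _ (X.thetaC_surjective hB))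

end Ctx

end Cfsg.Agent.Lib.MonsterHeld52
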