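import Cfsg.Agent.Lib.MonsterHeld52.Linear

/-!
The representation on the centraliser of the permutation modulo the sign; the linear group of the
subspace has no normal subgroup of two-power order.

Owner: helper52.
-/

set_option autoImplicit false
set_option maxRecDepth 20000

namespace Cfsg.Agent.Lib.MonsterHeld52

open Cfsg Cfsg.Agent.Lib.Leech Cfsg.Agent.Lib.Golay
open Cfsg.Agent.Lib.LeechMod2
open scoped Matrix

/-- The image of the permutation. -/
noncomputable def β0 : Spor.Co1 := Frame.bar π0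

/-- Its centraliser. -/
noncomputable def C7 : Subgroup Spor.Co1 := Subgroup.centralizer {β0}

theorem π0_pow7 : π0 ^ 7 = 1 := by rw [π0, ← map_pow, σ0_pow7, map_one]

theorem π0_ne_one : π0 ≠ 1 := by
  intro h
  have h1 : σ0 = 1 := permHom_injective (h.trans (map_one _).symm)
  have h2 := S5604.orderR
  rw [show gperm M24Classes.Data.r7 = 1 from congrArg Subtype.val h1, orderOf_one] at h2
  omega

theorem β0_ne_one : β0 ≠ 1 := fun h => by
  refine π0_ne_one ?_
  rcases center_co0_eq (Frame.bar_eq_one.mp h) with e | e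
  · exact e
  · exfalso
    have h7 := π0_pow7
    rw [e] at h7
    have h2 : negOne ^ 2 = 1 := by
      rw [pow_two]; exact Frame.mul_self_of_diag (Frame.center_le_diag negOne_mem_center)
    rw [show (7 : ℕ) = 2 * 3 + 1 from rfl, pow_succ, pow_mul, h2, one_pow, one_mul] at h7
    exact negOne_ne_one h7

theorem β0_pow7 : β0 ^ 7 = 1 := by rw [β0, ← map_pow, π0_pow7, map_one]

theorem orderOf_β0 : orderOf β0 = 7 := by
  haveI : Fact (Nat.Prime 7) := ⟨by norm_num⟩
  exact orderOf_eq_prime β0_pow7 β0_ne_one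

/-- An element commuting with the image commutes with the permutation. -/
theorem mem_CC_of_bar {g : Co0} (h : Frame.bar g ∈ C7) : g ∈ CC := by
  rw [C7, Subgroup.mem_centralizer_singleton_iff] at h
  have hc : g * π0 * g⁻¹ * π0⁻¹ ∈ Subgroup.center Co0 := by
    rw [← Frame.bar_eq_one, map_mul, map_mul, map_mul, map_inv, map_inv]
    rw [show Frame.bar π0 = β0 from rfl, h]
    group
  rcases center_co0_eq hc with e | e
  · rw [mul_inv_eq_one, mul_inv_eq_iff_eq_mul] at e
    exact mem_CC.mpr e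
  · exfalso
    have e1 : g * π0 * g⁻¹ = negOne * π0 := by rw [← e]; group
    have e2 := congrArg (fun y : Co0 => y ^ 7) e1
    simp only [conj_pow, π0_pow7] at e2
    rw [Commute.mul_pow (show Commute negOne π0 from
      (Subgroup.mem_center_iff.mp negOne_mem_center π0).symm), π0_pow7] at e2
    have h2 : negOne ^ 2 = 1 := by
      rw [pow_two]; exact Frame.mul_self_of_diag (Frame.center_le_diag negOne_mem_center)
    rw [show (7 : ℕ) = 2 * 3 + 1 from rfl, pow_succ, pow_mul, h2] at e2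
    simp at e2
    exact negOne_ne_one e2.symm

/-- Reduction on the centraliser. -/
noncomputable def qCC : CC →* C7 :=
  (Frame.bar.comp CC.subtype).codRestrict C7 fun g => Subgroup.mem_centralizer_singleton_iff.mpr (by
    show Frame.bar (g : Co0) * Frame.bar π0 = Frame.bar π0 * Frame.bar (g : Co0)
    rw [← map_mul, ← map_mul, mem_CC.mp g.2])

theorem qCC_surjective : Function.Surjective qCC := by
  rintro ⟨x, hx⟩
  obtain ⟨g, rfl⟩ := Frame.bar_surjective x
  exact ⟨⟨g, mem_CC_of_bar hx⟩, rfl⟩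

theorem ker_qCC_le : qCC.ker ≤ phi.ker := by
  intro g hg
  have h : Frame.bar (g : Co0) = 1 := congrArg Subtype.val (MonoidHom.mem_ker.mp hg)
  rw [MonoidHom.mem_ker]
  rcases center_co0_eq (Frame.bar_eq_one.mp h) with e | e
  · rw [show g = 1 from Subtype.ext e, map_one]
  · rw [show g = ⟨negOne, negOne_mem⟩ from Subtype.ext e, phi_negOne]

/-- The representation modulo the sign. -/
noncomputable def phiBar : C7 →* Matrix.SpecialLinearGroup (Fin 3) (ZMod 2) :=
  qCC.liftOfSurjective qCC_surjective ⟨phi, ker_qCC_le⟩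

theorem phiBar_qCC (g : CC) : phiBar (qCC g) = phi g :=
  MonoidHom.liftOfRightInverse_comp_apply _ _ _ _ g

theorem phiBar_surjective : Function.Surjective phiBar := fun M => by
  obtain ⟨g, hg⟩ := phi_surjective M
  exact ⟨qCC g, by rw [phiBar_qCC, hg]⟩

theorem phiBar_eq_one_iff {c : C7} : phiBar c = 1 ↔ ∃ j : ℕ, (c : Spor.Co1) = β0 ^ j := by
  obtain ⟨g, rfl⟩ := qCC_surjective c
  rw [phiBar_qCC]
  constructor
  · intro h
    obtain ⟨j, hj⟩ := phi_eq_one h
    refine ⟨j, ?_⟩
    show Frame.bar (g : Co0) = _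
    rcases hj with e | e
    · rw [e, map_pow]; rfl
    · rw [e, map_mul, Frame.bar_eq_one.mpr negOne_mem_center, one_mul, map_pow]; rfl
  · rintro ⟨j, hj⟩
    have hc : (π0 ^ j)⁻¹ * (g : Co0) ∈ Subgroup.center Co0 := by
      rw [← Frame.bar_eq_one, map_mul, map_inv, map_pow, show Frame.bar π0 = β0 from rfl,
        show Frame.bar (g : Co0) = β0 ^ j from hj, inv_mul_cancel]
    rcases center_co0_eq hc with e | e
    · rw [show g = ⟨π0, π0_mem⟩ ^ j from Subtype.ext (by
        rw [SubgroupClass.coe_pow]; exact (inv_mul_eq_one.mp e).symm), map_pow, phi_π0, one_pow]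
    · rw [show g = ⟨π0, π0_mem⟩ ^ j * ⟨negOne, negOne_mem⟩ from Subtype.ext (by
        rw [Subgroup.coe_mul, SubgroupClass.coe_pow]
        exact eq_mul_of_inv_mul_eq e), map_mul, map_pow, phi_π0,
        phi_negOne, one_pow, one_mul]

/-! ### the linear group -/

theorem transitive_nonzero : ∀ v w : Fin 3 → ZMod 2, v ≠ 0 → w ≠ 0 →
    ∃ c ∈ List.range 512, (decM c).det = 1 ∧ decM c *ᵥ v = w := by
  decide +kernel

/-- A normal subgroup of two-power order is trivial. -/
theorem normal_two_eq_bot (N : Subgroup (Matrix.SpecialLinearGroup (Fin 3) (ZMod 2))) [N.Normal]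
    (hp : IsPGroup 2 N) : N = ⊥ := by
  haveI : Fact (Nat.Prime 2) := ⟨Nat.prime_two⟩
  let act : MulAction N (Fin 3 → ZMod 2) :=
    { smul := fun n v => ((n : Matrix.SpecialLinearGroup (Fin 3) (ZMod 2)) :
        Matrix (Fin 3) (Fin 3) (ZMod 2)) *ᵥ v
      one_smul := fun v => Matrix.one_mulVec v
      mul_smul := fun a b v => (Matrix.mulVec_mulVec v _ _).symm }
  obtain ⟨w, hw, hw0⟩ := hp.exists_fixed_point_of_prime_dvd_card_of_fixed_point (Fin 3 → ZMod 2)
    (by rw [Nat.card_fun, Nat.card_zmod, Nat.card_eq_fintype_card, Fintype.card_fin]; norm_num)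
    (show (0 : Fin 3 → ZMod 2) ∈ MulAction.fixedPoints N (Fin 3 → ZMod 2) from fun n =>
      Matrix.mulVec_zero _)
  rw [Subgroup.eq_bot_iff_forall]
  intro n hn
  have hall : ∀ v, (n : Matrix (Fin 3) (Fin 3) (ZMod 2)) *ᵥ v = v := by
    intro v
    by_cases hv : v = 0
    · rw [hv, Matrix.mulVec_zero]
    obtain ⟨c, -, hd, hc⟩ := transitive_nonzero w v (Ne.symm hw0) hv
    let M : Matrix.SpecialLinearGroup (Fin 3) (ZMod 2) := ⟨decM c, hd⟩
    have hm : M⁻¹ * n * M⁻¹⁻¹ ∈ N := (inferInstance : N.Normal).conj_mem n hn _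
    have h1 : ((M⁻¹ * n * M⁻¹⁻¹ : Matrix.SpecialLinearGroup (Fin 3) (ZMod 2)) :
        Matrix (Fin 3) (Fin 3) (ZMod 2)) *ᵥ w = w := hw ⟨_, hm⟩
    rw [← hc]
    conv_rhs => rw [← h1]
    show _ = ((M : Matrix.SpecialLinearGroup (Fin 3) (ZMod 2)) : Matrix (Fin 3) (Fin 3) (ZMod 2)) *ᵥ _
    rw [Matrix.mulVec_mulVec, Matrix.mulVec_mulVec, ← Matrix.SpecialLinearGroup.coe_mul,
      show M * (M⁻¹ * n * M⁻¹⁻¹) = n * M by group, Matrix.SpecialLinearGroup.coe_mul]
  refine Subtype.ext (Matrix.ext fun i j => ?_)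
  have := congrFun (hall (Pi.single j 1)) i
  rw [Matrix.mulVec_single_one] at this
  rw [Matrix.SpecialLinearGroup.coe_one, Matrix.one_apply]
  simp only [Matrix.col_apply, Pi.single_apply] at this
  exact this

end Cfsg.Agent.Lib.MonsterHeld52
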