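import Cfsg.Agent.Lib.Co3Model.Ops
import Cfsg.Agent.Lib.M24Classes.Classes
import Cfsg.Agent.Lib.Leech.PointStab

/-!
The lattice vectors fixed by the permutation of order 7 with three fixed points, and their classes
modulo two.

Owner: helper52.
-/

set_option autoImplicit false

namespace Cfsg.Agent.Lib.MonsterHeld52

open Cfsg Cfsg.Agent.Lib.Leech Cfsg.Agent.Lib.Golay
open Cfsg.Agent.Lib.Co3Model (sum_pts)
open Cfsg.Agent.Lib.Computation (getW)
open Cfsg.Agent.Lib.M24Classes

theorem inM24_r7 : inM24 Data.r7 = true := by decide +kernel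

/-- The permutation. -/
noncomputable def σ0 : M24 := ⟨gperm Data.r7, gperm_mem_M24 inM24_r7⟩

/-- The lattice automorphism. -/
noncomputable def π0 : Co0 := permHom σ0

/-- The orbit of an index. -/
def slot (i : ℕ) : ℕ :=
  [0, 0, 0, 0, 1, 0, 2, 1, 2, 1, 2, 1, 5, 2, 3, 2, 1, 0, 1, 4, 1, 2, 2, 0].getD i 0

/-- An index in each orbit. -/
def slotRep (k : ℕ) : ℕ := [0, 4, 6, 14, 19, 12].getD k 0

/-- Iterates of the permutation on indices. -/
def itW : ℕ → ℕ → ℕ
  | 0, i => i
  | n + 1, i => getW 5 Data.r7 (itW n i)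

/-- The checks on the orbits. -/
def orbitsOK : Bool :=
  (List.range 24).all fun i => Nat.blt (slot i) 6 && Nat.beq (slot (getW 5 Data.r7 i)) (slot i) &&
    (List.range 7).any fun k => Nat.beq (itW k (slotRep (slot i))) i

theorem orbitsOK_true : orbitsOK = true := by decide +kernel

theorem slot_step {i : ℕ} (hi : i < 24) : slot (getW 5 Data.r7 i) = slot i := by
  have h := orbitsOK_true
  simp only [orbitsOK, List.all_eq_true, List.mem_range, Bool.and_eq_true, Nat.beq_eq] at h
  exact (h i hi).1.2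

theorem exists_itW {i : ℕ} (hi : i < 24) : ∃ k, itW k (slotRep (slot i)) = i := by
  have h := orbitsOK_true
  simp only [orbitsOK, List.all_eq_true, List.mem_range, Bool.and_eq_true, List.any_eq_true,
    Nat.beq_eq] at h
  obtain ⟨k, -, hk⟩ := (h i hi).2
  exact ⟨k, hk⟩

theorem slot_σ (q : GolayPt) : slot (idx ((σ0 : Equiv.Perm GolayPt) q)) = slot (idx q) := by
  show slot (idx (gperm Data.r7 q)) = _
  rw [idx_gperm (okCode_of_inM24 inM24_r7), slot_step (idx_lt q)]

theorem apply_fixed {v : leechLattice} (h : π0 • v = v) (q : GolayPt) :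
    vec v ((σ0 : Equiv.Perm GolayPt) q) = vec v q := by
  conv_lhs => rw [← h]
  rw [π0, permHom_apply, Equiv.symm_apply_apply]

/-- A fixed vector is constant on the orbits. -/
theorem fixed_slot {v : leechLattice} (h : π0 • v = v) (q : GolayPt) :
    vec v q = vec v (pt (slotRep (slot (idx q)))) := by
  obtain ⟨k, hk⟩ := exists_itW (idx_lt q)
  have hrep : slotRep (slot (idx q)) < 24 := by
    have : ∀ i < 24, slotRep (slot i) < 24 := by decide +kernel
    exact this _ (idx_lt q)
  have key : ∀ n, ∃ p, idx p = itW n (slotRep (slot (idx q))) ∧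
      vec v p = vec v (pt (slotRep (slot (idx q)))) := by
    intro n
    induction n with
    | zero => exact ⟨_, idx_pt hrep, rfl⟩
    | succ n ih =>
      obtain ⟨p, hp, hv⟩ := ih
      refine ⟨(σ0 : Equiv.Perm GolayPt) p, ?_, by rw [apply_fixed h, hv]⟩
      show idx (gperm Data.r7 p) = _
      rw [idx_gperm (okCode_of_inM24 inM24_r7), hp]
      rfl
  obtain ⟨p, hp, hv⟩ := key k
  rw [hk] at hp
  have e := idx_injective hp
  rw [e] at hv
  exact hv

/-! ### parameters -/

/-- The values on the orbits. -/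
def sv (P : Fin 6 → ℤ) : ℕ → ℤ
  | 0 => P 0
  | 1 => P 0 + 2 * P 1
  | 2 => P 0 + 2 * P 2
  | 3 => P 0 + 4 * P 3
  | 4 => P 0 + 2 * P 1 + 4 * P 4
  | _ => P 0 + 2 * P 2 + 4 * (P 0 - P 3 - P 4 + 2 * P 5)

/-- The vector with given parameters. -/
def valF (P : Fin 6 → ℤ) : GolayPt → ℤ := fun q => sv P (slot (idx q))

/-- The parameters of six values. -/
def par6 (a0 a1 a2 f0 f1 f2 : ℤ) : Fin 6 → ℤ :=
  ![a0, (a1 - a0) / 2, (a2 - a0) / 2, (f0 - a0) / 4, (f1 - a1) / 4,
    ((f2 - a2) / 4 - a0 + (f0 - a0) / 4 + (f1 - a1) / 4) / 2]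

/-- The parameters of a vector. -/
def parOf (x : GolayPt → ℤ) : Fin 6 → ℤ :=
  par6 (x (pt 0)) (x (pt 4)) (x (pt 6)) (x (pt 14)) (x (pt 19)) (x (pt 12))

theorem par6_sv (P : Fin 6 → ℤ) :
    par6 (sv P 0) (sv P 1) (sv P 2) (sv P 3) (sv P 4) (sv P 5) = P := by
  funext j
  fin_cases j <;> simp [par6, sv] <;> omega

theorem slot_reps : slot (idx (pt 0)) = 0 ∧ slot (idx (pt 4)) = 1 ∧ slot (idx (pt 6)) = 2 ∧
    slot (idx (pt 14)) = 3 ∧ slot (idx (pt 19)) = 4 ∧ slot (idx (pt 12)) = 5 := by decide +kernel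

theorem parOf_valF (P : Fin 6 → ℤ) : parOf (valF P) = P := by
  obtain ⟨e0, e1, e2, e3, e4, e5⟩ := slot_reps
  simp only [parOf, valF, e0, e1, e2, e3, e4, e5]
  exact par6_sv P

theorem sum_slots (c : ℕ → ℤ) :
    ∑ q : GolayPt, c (slot (idx q)) = 7 * c 0 + 7 * c 1 + 7 * c 2 + c 3 + c 4 + c 5 := by
  rw [sum_pts]
  simp only [List.range_succ, List.range_zero, List.nil_append, List.cons_append, List.map_cons,
    List.map_nil, List.sum_cons, List.sum_nil, idx_pt, Nat.reduceLT, slot,
    List.getD_eq_getElem?_getD, List.getElem?_cons_zero, List.getElem?_cons_succ, Option.getD_some]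
  ring

/-- The basic parameter vectors. -/
def unit (j : Fin 6) : Fin 6 → ℤ := Pi.single j 1

/-- The residues of a basic vector form a code word. -/
def unitMask (j : Fin 6) : ℕ :=
  (List.range 24).foldr (fun i m =>
    if sv (unit j) (slot i) % 4 = (if j = 0 then 1 else 2) then m ||| 2 ^ i else m) 0

theorem unitMask_ok : ∀ j : Fin 6, inCode (unitMask j) = true ∧
    (∀ q : GolayPt, (valF (unit j) q % 4 = (if j = 0 then 1 else 2)) ↔
      (unitMask j).testBit (idx q) = true) ∧
    (∀ q : GolayPt, valF (unit j) q % 2 = if j = 0 then 1 else 0) ∧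
    (∑ q, valF (unit j) q) % 8 = (if j = 0 then 4 else 0) := by
  decide +kernel

theorem unit_mem (j : Fin 6) : valF (unit j) ∈ leechLattice := by
  obtain ⟨hc, hres, hpar, hsum⟩ := unitMask_ok j
  have hcode := Co3Model.isCode_setOfMask hc
  by_cases hj : j = 0
  · simp only [if_pos hj] at hres hpar hsum
    refine oddVec_mem ⟨hpar, ?_, hsum⟩
    convert hcode using 1
    ext q
    rw [mem_res, mem_setOfMask]
    exact hres q
  · simp only [if_neg hj] at hres hpar hsum
    refine evenVec_mem ⟨hpar, ?_, hsum⟩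
    convert hcode using 1
    ext q
    rw [mem_res, mem_setOfMask]
    exact hres q

theorem valF_add (P R : Fin 6 → ℤ) : valF (P + R) = valF P + valF R := by
  funext q
  simp only [valF, Pi.add_apply]
  rcases slot (idx q) with _ | _ | _ | _ | _ | n <;> simp [sv] <;> ring

theorem valF_smul (n : ℤ) (P : Fin 6 → ℤ) : valF (n • P) = n • valF P := by
  funext q
  simp only [valF, Pi.smul_apply]
  rcases slot (idx q) with _ | _ | _ | _ | _ | n <;> simp [sv] <;> ring

/-- The linear map of parameters. -/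
def valHom : (Fin 6 → ℤ) →+ (GolayPt → ℤ) := AddMonoidHom.mk' valF valF_add

theorem valF_mem (P : Fin 6 → ℤ) : valF P ∈ leechLattice := by
  have e : P = ∑ j, P j • unit j := by
    funext i
    simp [unit, Pi.single_apply]
  rw [e, show valF _ = valHom _ from rfl, map_sum]
  refine sum_mem fun j _ => ?_
  rw [show valHom (P j • unit j) = valF (P j • unit j) from rfl, valF_smul]
  exact zsmul_mem (unit_mem j) _

/-- The lattice vector with given parameters. -/
def val (P : Fin 6 → ℤ) : leechLattice := ⟨valF P, valF_mem P⟩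

theorem val_add (P R : Fin 6 → ℤ) : val (P + R) = val P + val R := Subtype.ext (valF_add P R)

theorem val_injective : Function.Injective val := fun P R h => by
  rw [← parOf_valF P, ← parOf_valF R]
  exact congrArg parOf (congrArg Subtype.val h)

theorem val_fixed (P : Fin 6 → ℤ) : π0 • val P = val P := by
  apply Subtype.ext
  funext q
  show vec (π0 • val P) q = valF P q
  rw [π0, permHom_apply]
  show valF P _ = _
  simp only [valF]
  rw [← slot_σ ((σ0 : Equiv.Perm GolayPt).symm q), Equiv.apply_symm_apply]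

/-- Every fixed vector is given by parameters. -/
theorem exists_val {v : leechLattice} (h : π0 • v = v) : ∃ P, v = val P := by
  obtain ⟨c, hc⟩ : ∃ c : ℕ → ℤ, c = fun k => vec v (pt (slotRep k)) := ⟨_, rfl⟩
  have hv : ∀ q, vec v q = c (slot (idx q)) := fun q => by rw [hc]; exact fixed_slot h q
  obtain ⟨e0, e1, e2, e3, e4, e5⟩ := slot_reps
  have hpar : ∀ p q, vec v p % 2 = vec v q % 2 := fun p q => parity_of_mem v.2 p q
  -- congruence on an octad
  have hoct : ∀ t : Fin 3, ∃ m : ℕ, inCode m = true ∧ ∀ q : GolayPt,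
      (m.testBit (idx q) = true ↔ slot (idx q) = t.val ∨ slot (idx q) = t.val + 3) := fun t =>
    (by decide +kernel : ∀ t : Fin 3, inCode ([8536111, 1903248, 6337856].getD t.val 0) = true ∧
      ∀ q : GolayPt, (([8536111, 1903248, 6337856].getD t.val 0).testBit (idx q) = true ↔
        slot (idx q) = t.val ∨ slot (idx q) = t.val + 3)) t |> fun h => ⟨_, h⟩
  have hmod : ∀ t : Fin 3, (c (t.val + 3) - c t.val) % 4 = 0 := by
    intro t
    obtain ⟨m, hm, hmq⟩ := hoct t
    have h8 := dotInt_dvd (two_smul_code_mem (Co3Model.isCode_setOfMask hm)) v.2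
    have e : dotInt (fun i => if i ∈ setOfMask m then (2 : ℤ) else 0) (vec v) =
        ∑ q : GolayPt, (fun k => if k = t.val ∨ k = t.val + 3 then 2 * c k else 0) (slot (idx q)) := by
      refine Finset.sum_congr rfl fun q _ => ?_
      simp only [mem_setOfMask, hmq q]
      split_ifs
      · rw [hv q]
      · exact zero_mul _
    have hd : (8 : ℤ) ∣ dotInt (fun i => if i ∈ setOfMask m then (2 : ℤ) else 0) (vec v) := h8
    rw [e, sum_slots (fun k => if k = t.val ∨ k = t.val + 3 then 2 * c k else 0)] at hd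
    fin_cases t <;> simp at hd ⊢ <;> omega
  have hsum : ((∑ q, vec v q) % 8 = 0 ∧ c 0 % 2 = 0) ∨ ((∑ q, vec v q) % 8 = 4 ∧ c 0 % 2 = 1) := by
    rw [hc]
    rcases mem_leech_iff.mp v.2 with hw | hw
    · exact Or.inl ⟨hw.2.2, hw.1 _⟩
    · exact Or.inr ⟨hw.2.2, hw.1 _⟩
  rw [Finset.sum_congr rfl fun q _ => hv q, sum_slots] at hsum
  have p1 : c 1 % 2 = c 0 % 2 := by rw [hc]; exact hpar _ _
  have p2 : c 2 % 2 = c 0 % 2 := by rw [hc]; exact hpar _ _
  have m0 : (c 3 - c 0) % 4 = 0 := hmod 0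
  have m1 : (c 4 - c 1) % 4 = 0 := hmod 1
  have m2 : (c 5 - c 2) % 4 = 0 := hmod 2
  refine ⟨par6 (c 0) (c 1) (c 2) (c 3) (c 4) (c 5), Subtype.ext (funext fun q => ?_)⟩
  show vec v q = _
  rw [hv q]
  show _ = sv _ (slot (idx q))
  have hlt : slot (idx q) < 6 :=
    (by decide +kernel : ∀ p : GolayPt, slot (idx p) < 6) q
  interval_cases slot (idx q) <;> simp [sv, par6] <;> omega

/-! ### congruence modulo two -/

/-- Congruence modulo twice the lattice. -/
def Eqv (u v : leechLattice) : Prop := ∃ t : leechLattice, u - v = t + t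

theorem Eqv.rfl' (u : leechLattice) : Eqv u u := ⟨0, by simp⟩

theorem Eqv.symm {u v : leechLattice} (h : Eqv u v) : Eqv v u := by
  obtain ⟨t, ht⟩ := h
  exact ⟨-t, by rw [← neg_sub, ht]; abel⟩

theorem Eqv.trans {u v w : leechLattice} (h1 : Eqv u v) (h2 : Eqv v w) : Eqv u w := by
  obtain ⟨t, ht⟩ := h1
  obtain ⟨s, hs⟩ := h2
  exact ⟨t + s, by rw [show u - w = (u - v) + (v - w) by abel, ht, hs]; abel⟩

theorem Eqv.smul {u v : leechLattice} (h : Eqv u v) (g : Co0) : Eqv (g • u) (g • v) := by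
  obtain ⟨t, ht⟩ := h
  exact ⟨g • t, by rw [← smul_sub', ht, smul_add']⟩

theorem eqv_neg (u : leechLattice) : Eqv (-u) u := ⟨-u, by abel⟩

/-- Congruent short vectors agree up to sign. -/
theorem eq_or_neg_of_small {u v : leechLattice} (h : Eqv u v)
    (hn : sqNorm (vec u) + sqNorm (vec v) < 128) : u = v ∨ u = -v := by
  obtain ⟨t, ht⟩ := h
  by_contra hc
  push Not at hc
  have h1 : t ≠ 0 := fun e => hc.1 (sub_eq_zero.mp (by rw [ht, e, add_zero]))
  have h2 : t + v ≠ 0 := fun e => hc.2 (by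
    rw [eq_neg_of_add_eq_zero_left e] at ht
    rw [sub_eq_iff_eq_add.mp ht]; abel)
  have n1 := sqNorm_ge t.2 fun e => h1 (Subtype.ext e)
  have n2 := sqNorm_ge (t + v).2 fun e => h2 (Subtype.ext e)
  have key : sqNorm (vec u) + sqNorm (vec v) = 2 * sqNorm (vec t) + 2 * sqNorm (vec (t + v)) := by
    rw [sub_eq_iff_eq_add.mp ht]
    simp only [sqNorm, vec, AddSubgroup.coe_add, Pi.add_apply, Finset.mul_sum,
      ← Finset.sum_add_distrib]
    exact Finset.sum_congr rfl fun i _ => by ring
  simp only [vec] at *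
  omega

/-- The classes of fixed vectors. -/
abbrev V6 : Type := Fin 6 → ZMod 2

/-- Reduction of parameters. -/
def red (P : Fin 6 → ℤ) : V6 := fun j => (P j : ZMod 2)

theorem red_add (P R : Fin 6 → ℤ) : red (P + R) = red P + red R := by
  funext j
  simp [red]

theorem eqv_val_iff {P R : Fin 6 → ℤ} : Eqv (val P) (val R) ↔ red P = red R := by
  constructor
  · rintro ⟨t, ht⟩
    have ht' : π0 • t = t := by
      have h2 : (2 : ℤ) • (π0 • t) = (2 : ℤ) • t := by
        rw [two_zsmul, two_zsmul, ← ht, ← smul_add', ← ht, smul_sub', val_fixed, val_fixed]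
      exact leech_zsmul_injective (n := 2) (by norm_num) h2
    obtain ⟨T, rfl⟩ := exists_val ht'
    rw [sub_eq_iff_eq_add, ← val_add, ← val_add] at ht
    rw [val_injective ht, red_add, red_add, CharTwo.add_self_eq_zero, zero_add]
  · intro h
    have hd : ∀ j, ∃ k, P j - R j = 2 * k := fun j =>
      Int.dvd_of_emod_eq_zero (Int.emod_eq_zero_of_dvd
        ((ZMod.intCast_zmod_eq_zero_iff_dvd _ 2).mp (by
          push_cast
          exact sub_eq_zero.mpr (congrFun h j))))
    choose T hT using hd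
    refine ⟨val T, ?_⟩
    rw [sub_eq_iff_eq_add, ← val_add, ← val_add]
    congr 1
    funext j
    have := hT j
    simp only [Pi.add_apply]
    omega

end Cfsg.Agent.Lib.MonsterHeld52
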